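import Mathlib

/-!
The action of `GL_n(F)` modulo its centre on the points of projective space.
-/

set_option autoImplicit false

open Matrix

namespace CfsgLib.MinCover.PGL

variable {F : Type*} [Field F] {n : ℕ}

/-- The projective group. -/
abbrev Gq (F : Type*) [Field F] (n : ℕ) :=
  GL (Fin n) F ⧸ Subgroup.center (GL (Fin n) F)

/-- The points. -/
abbrev Pt (F : Type*) [Field F] (n : ℕ) := Projectivization F (Fin n → F)

theorem smul_vec (g : GL (Fin n) F) (v : Fin n → F) :
    g • v = (g : Matrix (Fin n) (Fin n) F) *ᵥ v := rfl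

theorem exists_scalar_of_mem_center {g : GL (Fin n) F} (hg : g ∈ Subgroup.center (GL (Fin n) F)) :
    ∃ a : F, ∀ v : Fin n → F, (g : Matrix (Fin n) (Fin n) F) *ᵥ v = a • v := by
  obtain ⟨a, ha⟩ := Matrix.GeneralLinearGroup.mem_center_iff_val_eq_scalar.mp hg
  refine ⟨a, fun v => ?_⟩
  rw [← ha, Matrix.scalar_apply]
  ext i
  rw [Matrix.mulVec_diagonal]
  rfl

/-- The permutation of the points induced by a class. -/
def toPerm : Gq F n →* Equiv.Perm (Pt F n) :=
  QuotientGroup.lift _ (MulAction.toPermHom (GL (Fin n) F) (Pt F n)) fun g hg => by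
    rw [MonoidHom.mem_ker]
    refine Equiv.ext fun p => ?_
    induction p using Projectivization.ind with
    | h v hv =>
      show g • Projectivization.mk F v hv = Projectivization.mk F v hv
      rw [Projectivization.smul_mk, Projectivization.mk_eq_mk_iff']
      obtain ⟨a, ha⟩ := exists_scalar_of_mem_center hg
      exact ⟨a, (ha v).symm⟩

instance instMulActionGq : MulAction (Gq F n) (Pt F n) := MulAction.compHom _ toPerm

theorem mk_smul (g : GL (Fin n) F) (p : Pt F n) : (QuotientGroup.mk g : Gq F n) • p = g • p := rfl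

theorem smul_mk_eq_iff (g : GL (Fin n) F) {v : Fin n → F} (hv : v ≠ 0) :
    (QuotientGroup.mk g : Gq F n) • (Projectivization.mk F v hv : Pt F n) =
      Projectivization.mk F v hv ↔ ∃ c : F, (g : Matrix (Fin n) (Fin n) F) *ᵥ v = c • v := by
  rw [mk_smul, Projectivization.smul_mk, Projectivization.mk_eq_mk_iff', smul_vec]
  exact ⟨fun ⟨c, hc⟩ => ⟨c, hc.symm⟩, fun ⟨c, hc⟩ => ⟨c, hc.symm⟩⟩

theorem card_pt [Finite F] : Nat.card (Pt F n) = ∑ i ∈ Finset.range n, Nat.card F ^ i :=
  Projectivization.card_of_finrank F _ (Module.finrank_fin_fun F)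

variable {G : Subgroup (Gq F n)}
  (hG : ((Matrix.SpecialLinearGroup.toGL : Matrix.SpecialLinearGroup (Fin n) F →* GL (Fin n) F).range).map
      (QuotientGroup.mk' (Subgroup.center (GL (Fin n) F))) ≤ G)

include hG in
theorem mk_mem_of_det {g : GL (Fin n) F} (hg : (g : Matrix (Fin n) (Fin n) F).det = 1) :
    (QuotientGroup.mk g : Gq F n) ∈ G :=
  hG ⟨g, ⟨⟨g, hg⟩, Units.ext rfl⟩, rfl⟩

theorem exists_orderOf_eq {g : GL (Fin n) F} (hg : (QuotientGroup.mk g : Gq F n) ∈ G) {r j : ℕ}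
    (hr : r.Prime) (h : g ^ r ^ j = 1) :
    ∃ k, orderOf (⟨QuotientGroup.mk g, hg⟩ : G) = r ^ k := by
  obtain ⟨k, -, hk⟩ := (Nat.dvd_prime_pow hr).mp (orderOf_dvd_of_pow_eq_one
    (show (⟨QuotientGroup.mk g, hg⟩ : G) ^ r ^ j = 1 from Subtype.ext (by
      show (QuotientGroup.mk' _ g : Gq F n) ^ r ^ j = 1
      rw [← map_pow, h, map_one])))
  exact ⟨k, hk⟩

theorem det_eq_one_of_pow {g : GL (Fin n) F} [Fintype F] {r j : ℕ} (h : g ^ r ^ j = 1)
    (hr : r.Prime) (hrq : ¬ r ∣ Fintype.card F - 1) : (g : Matrix (Fin n) (Fin n) F).det = 1 := by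
  classical
  set d : Fˣ := Matrix.GeneralLinearGroup.det g with hd
  have h1 : d ^ r ^ j = 1 := by rw [hd, ← map_pow, h, map_one]
  have h2 : orderOf d ∣ Fintype.card F - 1 :=
    Fintype.card_units F ▸ orderOf_dvd_card
  obtain ⟨i, -, hi⟩ := (Nat.dvd_prime_pow hr).mp (orderOf_dvd_of_pow_eq_one h1)
  rcases Nat.eq_zero_or_pos i with rfl | hi0
  · have : d = 1 := orderOf_eq_one_iff.mp (by simpa using hi)
    exact congrArg Units.val this
  · exact absurd ((dvd_pow_self r hi0.ne').trans (hi ▸ h2)) hrq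

/-- Lifts of commuting classes commute up to a scalar. -/
theorem exists_scalar_of_commute {g h : GL (Fin n) F}
    (hc : (QuotientGroup.mk g : Gq F n) * QuotientGroup.mk h = QuotientGroup.mk h * QuotientGroup.mk g) :
    ∃ c : F, ∀ v : Fin n → F, (g : Matrix (Fin n) (Fin n) F) *ᵥ ((h : Matrix (Fin n) (Fin n) F) *ᵥ v) =
      c • ((h : Matrix (Fin n) (Fin n) F) *ᵥ ((g : Matrix (Fin n) (Fin n) F) *ᵥ v)) := by
  have hz : (h * g)⁻¹ * (g * h) ∈ Subgroup.center (GL (Fin n) F) := QuotientGroup.eq.mp hc.symm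
  obtain ⟨c, hcc⟩ := exists_scalar_of_mem_center hz
  refine ⟨c, fun v => ?_⟩
  have e : g * h = h * g * ((h * g)⁻¹ * (g * h)) := by group
  have e2 := congrArg (fun z : GL (Fin n) F => (z : Matrix (Fin n) (Fin n) F) *ᵥ v) e
  simp only [Units.val_mul, ← Matrix.mulVec_mulVec] at e2
  rw [e2]
  have := hcc v
  simp only [Units.val_mul, ← Matrix.mulVec_mulVec] at this
  rw [this, Matrix.mulVec_smul, Matrix.mulVec_smul]

/-- Classes fixing the standard points are those of diagonal matrices. -/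
theorem ext_single {M N : Matrix (Fin n) (Fin n) F}
    (h : ∀ i, M *ᵥ Pi.single i 1 = N *ᵥ Pi.single i 1) : M = N := by
  ext a i
  simpa [Matrix.mulVec_single] using congrFun (h i) a

end CfsgLib.MinCover.PGL
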