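import Mathlib

/-!
A prime dividing `1 + q + ⋯ + q^(ℓ-1)`, new unless `ℓ = 2` and `q + 1` is a power of two.
-/

set_option autoImplicit false

namespace CfsgLib.MinCover.PGL

theorem pow_eq_one_add_mul {R : Type*} [CommRing R] {a : R} (h : a * a = 0) (i : ℕ) :
    (1 + a) ^ i = 1 + i * a := by
  induction i with
  | zero => simp
  | succ i ih => rw [pow_succ, ih, Nat.cast_succ]; linear_combination (i : R) * h

/-- The geometric sum of prime length. -/
theorem exists_prime_dvd_geom {q l : ℕ} (hq : 2 ≤ q) (hl : l.Prime) :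
    (∃ r, r.Prime ∧ r ∣ ∑ i ∈ Finset.range l, q ^ i ∧ ¬ r ∣ q - 1) ∨
      (l = 2 ∧ ∃ e, 2 ≤ e ∧ q + 1 = 2 ^ e) := by
  set N := ∑ i ∈ Finset.range l, q ^ i with hN
  by_cases hex : ∃ r, r.Prime ∧ r ∣ N ∧ ¬ r ∣ q - 1
  · exact Or.inl hex
  push_neg at hex
  have hall : ∀ r, r.Prime → r ∣ N → r = l := by
    intro r hr hd
    haveI := Fact.mk hr
    have h1 : (q : ZMod r) = 1 := by
      have : ((q - 1 : ℕ) : ZMod r) = 0 := (ZMod.natCast_eq_zero_iff _ _).mpr (hex r hr hd)
      rw [Nat.cast_sub (by omega)] at this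
      simpa [sub_eq_zero] using this
    have h2 : (N : ZMod r) = (l : ZMod r) := by
      rw [hN]; push_cast; simp [h1]
    rw [(ZMod.natCast_eq_zero_iff _ _).mpr hd, eq_comm, ZMod.natCast_eq_zero_iff] at h2
    exact (Nat.prime_dvd_prime_iff_eq hr hl).mp h2
  have hNl : l < N := by
    calc l = ∑ i ∈ Finset.range l, 1 := by simp
      _ < N := Finset.sum_lt_sum (fun i _ => Nat.one_le_pow i q (by omega))
          ⟨1, Finset.mem_range.mpr hl.one_lt, by rw [pow_one]; omega⟩
  have hpow : N = l ^ N.primeFactorsList.length :=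
    Nat.eq_prime_pow_of_unique_prime_dvd (by have := hl.pos; omega) fun hr hd => hall _ hr hd
  set e := N.primeFactorsList.length
  have he : 2 ≤ e := by
    by_contra h
    interval_cases e
    · simp at hpow; have := hl.one_lt; omega
    · simp at hpow; omega
  right
  have hl2 : l = 2 := by
    by_contra hne
    obtain ⟨s, hs⟩ := hl.odd_of_ne_two hne
    have hq1 : l ∣ q - 1 := hex l hl (hpow ▸ dvd_pow_self l (by omega))
    obtain ⟨t, ht⟩ := hq1
    let a : ZMod (l ^ 2) := (l : ZMod (l ^ 2)) * t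
    have hll : (l : ZMod (l ^ 2)) * l = 0 := by
      rw [← Nat.cast_mul, ← pow_two, ZMod.natCast_self]
    have ha : a * a = 0 := by linear_combination ((t : ZMod (l ^ 2)) * t) * hll
    have hqa : (q : ZMod (l ^ 2)) = 1 + a := by
      rw [show q = 1 + l * t by omega]; push_cast; rfl
    have hsum : (∑ i ∈ Finset.range l, i) = l * s := by
      have h := Finset.sum_range_id_mul_two l
      rw [hs, show 2 * s + 1 - 1 = 2 * s by omega] at h
      rw [hs]
      linarith
    have h2 : (N : ZMod (l ^ 2)) = (l : ZMod (l ^ 2)) := by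
      rw [hN]; push_cast
      simp only [hqa, pow_eq_one_add_mul ha, Finset.sum_add_distrib, Finset.sum_const,
        Finset.card_range, nsmul_one, ← Finset.sum_mul]
      have hsum' : (∑ i ∈ Finset.range l, (i : ZMod (l ^ 2))) = l * s := by
        rw [← Nat.cast_sum, hsum, Nat.cast_mul]
      rw [hsum']
      linear_combination ((s : ZMod (l ^ 2)) * t) * hll
    rw [(ZMod.natCast_eq_zero_iff _ _).mpr (hpow ▸ pow_dvd_pow l he), eq_comm,
      ZMod.natCast_eq_zero_iff] at h2
    have := Nat.le_of_dvd hl.pos h2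
    have := hl.one_lt
    nlinarith
  refine ⟨hl2, e, he, ?_⟩
  subst hl2
  rw [← hpow, hN]
  simp [Finset.sum_range_succ, add_comm]

/-- A divisor of a geometric sum is prime to the longer sums congruent to one modulo it. -/
theorem not_dvd_geom {q l k r : ℕ} (hr : r.Prime) (hd : r ∣ ∑ i ∈ Finset.range l, q ^ i) :
    ¬ r ∣ ∑ i ∈ Finset.range (l * k + 1), q ^ i := by
  have h1 : ∀ j, r ∣ ∑ i ∈ Finset.range (l * j), q ^ i := by
    intro j
    induction j with
    | zero => simp
    | succ j ih =>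
      rw [Nat.mul_succ, Finset.sum_range_add]
      refine dvd_add ih ?_
      simp only [pow_add, ← Finset.mul_sum]
      exact hd.mul_left _
  rw [Finset.sum_range_succ']
  intro h
  have h2 : r ∣ ∑ i ∈ Finset.range (l * k), q ^ (i + 1) := by
    simp only [pow_succ, ← Finset.sum_mul]
    exact (h1 k).mul_right q
  exact hr.one_lt.ne' (Nat.dvd_one.mp (by simpa using (Nat.dvd_add_right h2).mp h))

end CfsgLib.MinCover.PGL
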