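import Cfsg.Agent.MinCover.PGL.Action

/-!
The regular unipotent matrix: it fixes one point only.
-/

set_option autoImplicit false

open Matrix

namespace CfsgLib.MinCover.PGL

variable {F : Type*} [Field F] {m : ℕ}

/-- The nilpotent shift. -/
def shift (F : Type*) [Field F] (m : ℕ) : Matrix (Fin (m + 1)) (Fin (m + 1)) F :=
  Matrix.of fun i j => if (j : ℕ) = (i : ℕ) + 1 then 1 else 0

theorem shift_mulVec (u : Fin (m + 1) → F) (i : Fin (m + 1)) :
    (shift F m *ᵥ u) i = if h : (i : ℕ) + 1 < m + 1 then u ⟨i + 1, h⟩ else 0 := by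
  simp only [shift, Matrix.mulVec, dotProduct, Matrix.of_apply, ite_mul, one_mul, zero_mul]
  by_cases h : (i : ℕ) + 1 < m + 1
  · rw [dif_pos h, Finset.sum_eq_single ⟨i + 1, h⟩]
    · simp
    · exact fun b _ hb => if_neg fun e => hb (Fin.ext e)
    · simp
  · rw [dif_neg h]
    exact Finset.sum_eq_zero fun b _ => if_neg fun e => h (by have := b.2; omega)

theorem shift_pow_mulVec (k : ℕ) (u : Fin (m + 1) → F) (i : Fin (m + 1)) :
    ((shift F m ^ k) *ᵥ u) i = if h : (i : ℕ) + k < m + 1 then u ⟨i + k, h⟩ else 0 := by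
  induction k generalizing i with
  | zero => rw [pow_zero, Matrix.one_mulVec, dif_pos (show (i : ℕ) + 0 < m + 1 from i.2)]; rfl
  | succ k ih =>
    rw [pow_succ', ← Matrix.mulVec_mulVec, shift_mulVec]
    by_cases h : (i : ℕ) + 1 < m + 1
    · rw [dif_pos h, ih]
      by_cases h2 : (i : ℕ) + (k + 1) < m + 1
      · rw [dif_pos h2, dif_pos (show (i : ℕ) + 1 + k < m + 1 by omega)]
        congr 1
        exact Fin.ext (show (i : ℕ) + 1 + k = i + (k + 1) by omega)
      · rw [dif_neg h2, dif_neg (show ¬ (i : ℕ) + 1 + k < m + 1 by omega)]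
    · rw [dif_neg h, dif_neg (show ¬ (i : ℕ) + (k + 1) < m + 1 by omega)]

theorem shift_pow_eq_zero {k : ℕ} (hk : m + 1 ≤ k) : shift F m ^ k = 0 :=
  ext_single fun j => funext fun i => by
    rw [shift_pow_mulVec, dif_neg (show ¬ (i : ℕ) + k < m + 1 by omega), Matrix.zero_mulVec]
    rfl

/-- The first standard vector. -/
def e₀ (F : Type*) [Field F] (m : ℕ) : Fin (m + 1) → F := Pi.single 0 1

theorem e₀_ne_zero : e₀ F m ≠ 0 := fun h => by
  simpa [e₀] using congrFun h 0

theorem eq_smul_e₀ {u : Fin (m + 1) → F} (h : ∀ i : Fin (m + 1), i ≠ 0 → u i = 0) :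
    u = u 0 • e₀ F m := by
  ext i
  by_cases hi : i = 0
  · subst hi; simp [e₀]
  · simp [e₀, hi, h i hi]

/-- The regular unipotent matrix. -/
def unip (F : Type*) [Field F] (m : ℕ) : Matrix (Fin (m + 1)) (Fin (m + 1)) F := 1 + shift F m

theorem unip_e₀ : unip F m *ᵥ e₀ F m = e₀ F m := by
  ext i
  rw [unip, Matrix.add_mulVec, Matrix.one_mulVec, Pi.add_apply, shift_mulVec]
  by_cases h : (i : ℕ) + 1 < m + 1
  · rw [dif_pos h]
    have hne : (⟨(i : ℕ) + 1, h⟩ : Fin (m + 1)) ≠ 0 := fun e => Nat.succ_ne_zero _ (congrArg Fin.val e)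
    rw [show e₀ F m ⟨(i : ℕ) + 1, h⟩ = 0 from Pi.single_eq_of_ne hne 1, add_zero]
  · rw [dif_neg h]; simp

theorem unip_eigen {u : Fin (m + 1) → F} {c : F} (h : unip F m *ᵥ u = c • u) :
    u = u 0 • e₀ F m := by
  have hi : ∀ i : Fin (m + 1), (if hh : (i : ℕ) + 1 < m + 1 then u ⟨i + 1, hh⟩ else 0) =
      (c - 1) * u i := fun i => by
    have := congrFun h i
    rw [unip, Matrix.add_mulVec, Matrix.one_mulVec, Pi.add_apply, shift_mulVec,
      Pi.smul_apply, smul_eq_mul] at this
    linear_combination this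
  by_cases hc : c = 1
  · refine eq_smul_e₀ fun i hi0 => ?_
    have hpos : 0 < (i : ℕ) := Nat.pos_of_ne_zero fun e => hi0 (Fin.ext e)
    have := hi ⟨i - 1, by omega⟩
    rw [hc, sub_self, zero_mul, dif_pos (show (i : ℕ) - 1 + 1 < m + 1 by omega)] at this
    rw [← this]
    congr 1
    exact Fin.ext (show (i : ℕ) = i - 1 + 1 by omega)
  · have hz : ∀ d, ∀ i : Fin (m + 1), (i : ℕ) + d = m → u i = 0 := by
      intro d
      induction d with
      | zero =>
        intro i h0
        have := hi i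
        rw [dif_neg (by omega)] at this
        exact (mul_eq_zero.mp this.symm).resolve_left (sub_ne_zero.mpr hc)
      | succ d ih =>
        intro i h0
        have := hi i
        rw [dif_pos (by omega), ih ⟨i + 1, by omega⟩ (show (i : ℕ) + 1 + d = m by omega)] at this
        exact (mul_eq_zero.mp this.symm).resolve_left (sub_ne_zero.mpr hc)
    exact eq_smul_e₀ fun i _ => hz (m - i) i (by omega)

theorem unip_pow [Fintype F] {p : ℕ} [Fact p.Prime] [CharP F p] :
    unip F m ^ p ^ (m + 1) = 1 := by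
  rw [unip, add_pow_char_pow_of_commute p (m + 1) (Commute.one_left _), one_pow,
    shift_pow_eq_zero, add_zero]
  exact (Nat.lt_pow_self (Fact.out : p.Prime).one_lt).le

/-- The class of the regular unipotent matrix. -/
theorem exists_unip_elt [Fintype F] {p : ℕ} [Fact p.Prime] [CharP F p] :
    ∃ g : GL (Fin (m + 1)) F, (g : Matrix (Fin (m + 1)) (Fin (m + 1)) F) = unip F m ∧
      (g : Matrix (Fin (m + 1)) (Fin (m + 1)) F).det = 1 ∧ g ^ p ^ (m + 1) = 1 := by
  have hp : unip F m ^ p ^ (m + 1) = 1 := unip_pow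
  have hd : (unip F m).det = 1 := by
    have h1 := congrArg Matrix.det hp
    rw [Matrix.det_pow, Matrix.det_one] at h1
    have h2 : ((unip F m).det - 1) ^ p ^ (m + 1) = 0 := by
      rw [sub_pow_char_pow, h1, one_pow, sub_self]
    exact sub_eq_zero.mp (pow_eq_zero_iff (pow_ne_zero _ (Fact.out : p.Prime).ne_zero) |>.mp h2)
  refine ⟨Matrix.GeneralLinearGroup.mkOfDetNeZero (unip F m) (hd ▸ one_ne_zero), rfl, hd,
    Units.ext ?_⟩
  rw [Units.val_pow_eq_pow_val]
  exact hp

end CfsgLib.MinCover.PGL
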