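import Cfsg.Agent.MinCover.PGL.Action
import Cfsg.Agent.MinCover.PGL.Unipotent
import Cfsg.Agent.MinCover.PGL.Primes
import Cfsg.Agent.Classical.Linear.Transitivity

/-!
An element of prime power order fixing exactly one point of a projective space of dimension at
least two.
-/

set_option autoImplicit false

open Matrix

namespace CfsgLib.MinCover.PGL

variable {F : Type*} [Field F] [Fintype F]

/-- An element of order `r` of `GL_l` without eigenvalues. -/
theorem exists_no_eigen_of_prime {l r : ℕ} (hl : l.Prime) (hr : r.Prime)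
    (hd : r ∣ ∑ i ∈ Finset.range l, Fintype.card F ^ i) (hrq : ¬ r ∣ Fintype.card F - 1) :
    ∃ Z : Matrix (Fin l) (Fin l) F, Z ^ r ^ 1 = 1 ∧
      ∀ v : Fin l → F, ∀ c : F, Z *ᵥ v = c • v → v = 0 := by
  classical
  haveI := Fact.mk hr
  haveI := Fact.mk hl
  set q := Fintype.card F with hq
  have hq1 : 1 < q := Fintype.one_lt_card
  have hgeom : r ∣ q ^ l - 1 := hd.trans ⟨q - 1, (geom_sum_mul_of_one_le hq1.le l).symm⟩
  have hql : (q : ZMod r) ^ l = 1 := by
    have h : ((q ^ l - 1 : ℕ) : ZMod r) = 0 := (ZMod.natCast_eq_zero_iff _ _).mpr hgeom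
    rw [Nat.cast_sub (Nat.one_le_pow _ _ (by omega))] at h
    simpa [sub_eq_zero] using h
  have hqne : (q : ZMod r) ≠ 1 := by
    intro h
    apply hrq
    rw [← ZMod.natCast_eq_zero_iff, Nat.cast_sub hq1.le, h, Nat.cast_one, sub_self]
  have hord : orderOf (q : ZMod r) = l := orderOf_eq_prime hql hqne
  haveI : Finite (GL (Fin l) F) := inferInstance
  have hcardGL : Nat.card (GL (Fin l) F) = ∏ i : Fin l, (q ^ l - q ^ (i : ℕ)) :=
    Matrix.card_GL_field l
  obtain ⟨g, hg⟩ := exists_prime_orderOf_dvd_card' (G := GL (Fin l) F) r (by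
    rw [hcardGL]
    refine dvd_trans ?_ (Finset.dvd_prod_of_mem _ (Finset.mem_univ ⟨0, hl.pos⟩))
    simpa using hgeom)
  have hgr : g ^ r = 1 := by rw [← hg]; exact pow_orderOf_eq_one g
  refine ⟨(g : Matrix (Fin l) (Fin l) F), by rw [pow_one, ← Units.val_pow_eq_pow_val, hgr]; rfl,
    fun v c hv => ?_⟩
  by_contra hv0
  have hc : c = 1 := by
    have hpow : ∀ i : ℕ, ((g ^ i : GL (Fin l) F) : Matrix (Fin l) (Fin l) F) *ᵥ v = c ^ i • v := by
      intro i
      induction i with
      | zero => simp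
      | succ i ih => rw [pow_succ', Units.val_mul, ← Matrix.mulVec_mulVec, ih, Matrix.mulVec_smul,
          hv, smul_smul, ← pow_succ]
    have h1 := hpow r
    rw [hgr, Units.val_one, Matrix.one_mulVec] at h1
    have hcr : c ^ r = 1 := by
      by_contra h
      have : (c ^ r - 1) • v = 0 := by rw [sub_smul, ← h1, one_smul, sub_self]
      exact (smul_eq_zero.mp this).elim (fun h' => h (sub_eq_zero.mp h')) hv0
    have hc0 : c ≠ 0 := fun e => by
      rw [e, zero_pow hr.ne_zero] at hcr; exact zero_ne_one hcr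
    have h2 : orderOf (Units.mk0 c hc0) ∣ r :=
      orderOf_dvd_of_pow_eq_one (Units.ext (by simpa using hcr))
    rcases hr.eq_one_or_self_of_dvd _ h2 with h3 | h3
    · exact congrArg Units.val (orderOf_eq_one_iff.mp h3)
    · exact absurd (h3 ▸ Fintype.card_units F ▸ orderOf_dvd_card) hrq
  subst hc
  rw [one_smul] at hv
  -- the stabiliser of a vector has order prime to `r`
  haveI : Nontrivial (Fin l) := Fin.nontrivial_iff_two_le.mpr hl.two_le
  let S := MulAction.stabilizer (GL (Fin l) F) v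
  have horb : MulAction.orbit (GL (Fin l) F) v = {w | w ≠ 0} := by
    ext w
    constructor
    · rintro ⟨h, rfl⟩ h0
      exact hv0 (MulAction.injective h
        ((show h • v = 0 from h0).trans (Matrix.mulVec_zero _).symm))
    · intro hw
      obtain ⟨h, hh⟩ := CfsgLib.Classical.Linear.exists_sl_mulVec_eq hv0 hw
      exact ⟨Matrix.SpecialLinearGroup.toGL h, hh⟩
  have hidx : S.index = q ^ l - 1 := by
    rw [MulAction.index_stabilizer, horb, ← Nat.card_coe_set_eq]
    rw [show Nat.card ↥{w : Fin l → F | w ≠ 0} = Nat.card {w : Fin l → F // w ≠ 0} from rfl,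
      Nat.card_eq_fintype_card, Fintype.card_subtype_compl, Fintype.card_subtype_eq,
      Fintype.card_fun, Fintype.card_fin]
  have hcardS : Nat.card S = ∏ i ∈ Finset.univ.erase (⟨0, hl.pos⟩ : Fin l), (q ^ l - q ^ (i : ℕ)) := by
    have h1 := S.card_mul_index
    rw [hidx, hcardGL, ← Finset.mul_prod_erase Finset.univ _ (Finset.mem_univ ⟨0, hl.pos⟩),
      mul_comm] at h1
    have hpos : 0 < q ^ l - 1 := by
      have := Nat.one_lt_pow hl.ne_zero hq1
      omega
    simp only [pow_zero] at h1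
    exact mul_left_cancel₀ hpos.ne' h1
  have hgS : g ∈ S := hv
  have hrS : r ∣ Nat.card S := by
    have h := orderOf_dvd_natCard (⟨g, hgS⟩ : S)
    rwa [Subgroup.orderOf_mk, hg] at h
  rw [hcardS] at hrS
  obtain ⟨i, hi, hri⟩ := (hr.prime.dvd_finsetProd_iff _).mp hrS
  have hi0 : (i : ℕ) ≠ 0 := fun e => (Finset.mem_erase.mp hi).1 (Fin.ext e)
  have hqr : (q : ZMod r) ≠ 0 := fun e => by
    rw [e, zero_pow hl.ne_zero] at hql; exact zero_ne_one hql
  have hli : (q : ZMod r) ^ (l - (i : ℕ)) = 1 := by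
    have h : ((q ^ l - q ^ (i : ℕ) : ℕ) : ZMod r) = 0 := (ZMod.natCast_eq_zero_iff _ _).mpr hri
    rw [Nat.cast_sub (Nat.pow_le_pow_right (by omega) i.2.le), sub_eq_zero] at h
    push_cast at h
    refine mul_left_cancel₀ (pow_ne_zero (i : ℕ) hqr) ?_
    rw [← pow_add, Nat.add_sub_cancel' i.2.le, mul_one]
    exact h
  have := orderOf_dvd_of_pow_eq_one hli
  rw [hord] at this
  have := Nat.le_of_dvd (by omega) this
  omega

/-- The rotation, when `q ≡ 3` modulo 4. -/
theorem exists_no_eigen_two (h4 : Fintype.card F % 4 = 3) :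
    ∃ Z : Matrix (Fin 2) (Fin 2) F, Z ^ 2 ^ 2 = 1 ∧ Z.det = 1 ∧
      ∀ v : Fin 2 → F, ∀ c : F, Z *ᵥ v = c • v → v = 0 := by
  refine ⟨!![0, -1; 1, 0], ?_, by simp [Matrix.det_fin_two], fun v c h => ?_⟩
  · rw [show (2 : ℕ) ^ 2 = 4 from rfl]
    ext i j
    fin_cases i <;> fin_cases j <;> simp [pow_succ, Matrix.mul_apply, Fin.sum_univ_two]
  · have h0 := congrFun h 0
    have h1 := congrFun h 1
    simp [Matrix.mulVec, dotProduct, Fin.sum_univ_two] at h0 h1
    by_contra hv
    refine (FiniteField.isSquare_neg_one_iff (F := F)).not.mpr (by omega) ⟨c, ?_⟩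
    have hv1 : v 1 ≠ 0 := fun e => hv (by
      ext i; fin_cases i
      · simpa [e] using h1
      · exact e)
    refine mul_right_cancel₀ hv1 ?_
    linear_combination h0 + c * h1

variable {l k : ℕ}

/-- The index type of the blocks. -/
def blockEquiv (l k : ℕ) : Fin 1 ⊕ (Fin l × Fin k) ≃ Fin (l * k + 1) :=
  ((Equiv.sumCongr (Equiv.refl (Fin 1)) finProdFinEquiv).trans finSumFinEquiv).trans
    (finCongr (add_comm 1 (l * k)))

theorem blockEquiv_inl : blockEquiv l k (Sum.inl 0) = 0 := by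
  apply Fin.ext
  simp [blockEquiv]

/-- The block matrix. -/
def block (k : ℕ) (Z : Matrix (Fin l) (Fin l) F) : Matrix (Fin (l * k + 1)) (Fin (l * k + 1)) F :=
  Matrix.reindexAlgEquiv F F (blockEquiv l k)
    (Matrix.fromBlocks 1 0 0 (Matrix.blockDiagonal fun _ : Fin k => Z))

theorem block_mul (Z W : Matrix (Fin l) (Fin l) F) : block k Z * block k W = block k (Z * W) := by
  rw [block, block, block, ← map_mul, Matrix.fromBlocks_multiply]
  simp [Matrix.blockDiagonal_mul]

theorem block_one : block k (1 : Matrix (Fin l) (Fin l) F) = 1 := by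
  rw [block, show (fun _ : Fin k => (1 : Matrix (Fin l) (Fin l) F)) = 1 from rfl,
    Matrix.blockDiagonal_one, Matrix.fromBlocks_one, map_one]

theorem block_pow (Z : Matrix (Fin l) (Fin l) F) (i : ℕ) : block k Z ^ i = block k (Z ^ i) := by
  induction i with
  | zero => rw [pow_zero, pow_zero, block_one]
  | succ i ih => rw [pow_succ, pow_succ, ih, block_mul]

theorem block_mulVec (Z : Matrix (Fin l) (Fin l) F) (u : Fin (l * k + 1) → F)
    (s : Fin 1 ⊕ (Fin l × Fin k)) : (block k Z *ᵥ u) (blockEquiv l k s) =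
      Sum.elim (fun a => u (blockEquiv l k (Sum.inl a)))
        (fun ab => (Z *ᵥ fun j => u (blockEquiv l k (Sum.inr (j, ab.2)))) ab.1) s := by
  simp only [block, Matrix.coe_reindexAlgEquiv, Matrix.reindex_apply, Matrix.mulVec, dotProduct,
    Matrix.submatrix_apply, Equiv.symm_apply_apply]
  rw [← Equiv.sum_comp (blockEquiv l k)]
  simp only [Equiv.symm_apply_apply, Fintype.sum_sum_type, Fintype.sum_prod_type]
  rcases s with a | ⟨a, b⟩
  · fin_cases a
    simp
  · simp [Matrix.blockDiagonal_apply]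

theorem block_e₀ (Z : Matrix (Fin l) (Fin l) F) : block k Z *ᵥ e₀ F (l * k) = e₀ F (l * k) := by
  ext i
  obtain ⟨s, rfl⟩ := (blockEquiv l k).surjective i
  rw [block_mulVec]
  rcases s with a | ⟨a, b⟩
  · rfl
  · have h : ∀ t : Fin l × Fin k, e₀ F (l * k) (blockEquiv l k (Sum.inr t)) = 0 := fun t =>
      Pi.single_eq_of_ne (fun e => Sum.inr_ne_inl ((blockEquiv l k).injective
        (e.trans blockEquiv_inl.symm))) 1
    simp [h, Matrix.mulVec, dotProduct]

theorem block_eigen {Z : Matrix (Fin l) (Fin l) F}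
    (hZ : ∀ v : Fin l → F, ∀ c : F, Z *ᵥ v = c • v → v = 0) {u : Fin (l * k + 1) → F} {c : F}
    (h : block k Z *ᵥ u = c • u) : u = u 0 • e₀ F (l * k) := by
  refine eq_smul_e₀ fun i hi => ?_
  obtain ⟨s, rfl⟩ := (blockEquiv l k).surjective i
  rcases s with a | ⟨a, b⟩
  · exact absurd (by rw [Subsingleton.elim a 0]; exact blockEquiv_inl) hi
  · refine congrFun (hZ (fun j => u (blockEquiv l k (Sum.inr (j, b)))) c (funext fun j => ?_)) a
    have := congrFun h (blockEquiv l k (Sum.inr (j, b)))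
    rw [block_mulVec] at this
    exact this

/-- An element of prime power order fixing only the first point. -/
theorem exists_block_elt {p : ℕ} [hp : Fact p.Prime] [CharP F p] {n : ℕ} (hn : 2 ≤ n) :
    ∃ (g : GL (Fin (n + 1)) F) (r j : ℕ), r.Prime ∧ r ≠ p ∧ g ^ r ^ j = 1 ∧
      (g : Matrix (Fin (n + 1)) (Fin (n + 1)) F).det = 1 ∧
      ¬ r ∣ ∑ i ∈ Finset.range (n + 1), Fintype.card F ^ i ∧
      (g : Matrix (Fin (n + 1)) (Fin (n + 1)) F) *ᵥ e₀ F n = e₀ F n ∧
      ∀ (u : Fin (n + 1) → F) (c : F), (g : Matrix (Fin (n + 1)) (Fin (n + 1)) F) *ᵥ u = c • u → u = u 0 • e₀ F n := by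
  have hl : (n.minFac).Prime := Nat.minFac_prime (by omega)
  obtain ⟨k, hk⟩ : n.minFac ∣ n := Nat.minFac_dvd n
  generalize n.minFac = l at hl hk
  subst hk
  set q := Fintype.card F with hq
  have hpq : p ∣ q := by
    obtain ⟨⟨a, ha⟩, -, he⟩ := FiniteField.card F p
    rw [hq, he]
    exact dvd_pow_self p (by simpa using (Nat.pos_iff_ne_zero.mp ha))
  have hnp : ∀ r, r.Prime → r ∣ ∑ i ∈ Finset.range l, q ^ i → r ≠ p := by
    intro r hr hd e
    subst e
    have h1 := not_dvd_geom (k := k) hr hd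
    obtain ⟨l', hl'⟩ : ∃ l', l = l' + 1 := ⟨l - 1, by have := hl.pos; omega⟩
    rw [hl', Finset.sum_range_succ'] at hd
    have h2 : r ∣ ∑ i ∈ Finset.range l', q ^ (i + 1) :=
      Finset.dvd_sum fun i _ => dvd_pow hpq (by omega)
    exact hr.one_lt.ne' (Nat.dvd_one.mp (by simpa using (Nat.dvd_add_right h2).mp hd))
  obtain ⟨r, j, Z, hr, hd, hZp, hdet, hZ⟩ : ∃ (r j : ℕ) (Z : Matrix (Fin l) (Fin l) F), r.Prime ∧
      r ∣ ∑ i ∈ Finset.range l, q ^ i ∧ Z ^ r ^ j = 1 ∧
      ((block k Z).det = 1) ∧ ∀ v : Fin l → F, ∀ c : F, Z *ᵥ v = c • v → v = 0 := by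
    rcases exists_prime_dvd_geom (Fintype.one_lt_card (α := F)) hl with
      ⟨r, hr, hd, hrq⟩ | ⟨hl2, e, he, hqe⟩
    · obtain ⟨Z, hZp, hZ⟩ := exists_no_eigen_of_prime hl hr hd hrq
      refine ⟨r, 1, Z, hr, hd, hZp, ?_, hZ⟩
      have h1 : block k Z ^ r ^ 1 = 1 := by rw [block_pow, hZp, block_one]
      exact det_eq_one_of_pow (g := ⟨block k Z, block k Z ^ (r ^ 1 - 1),
          by rw [← pow_succ', Nat.sub_add_cancel (Nat.one_le_pow _ _ hr.pos), h1],
          by rw [← pow_succ, Nat.sub_add_cancel (Nat.one_le_pow _ _ hr.pos), h1]⟩)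
        (r := r) (j := 1) (Units.ext (by rw [Units.val_pow_eq_pow_val]; exact h1)) hr hrq
    · subst hl2
      have h4 : q % 4 = 3 := by
        have : 4 ∣ 2 ^ e := Nat.pow_dvd_pow 2 he
        omega
      obtain ⟨Z, hZp, hZd, hZ⟩ := exists_no_eigen_two (F := F) h4
      refine ⟨2, 2, Z, Nat.prime_two, ?_, hZp, ?_, hZ⟩
      · rw [show (∑ i ∈ Finset.range 2, q ^ i) = q + 1 by simp [Finset.sum_range_succ, add_comm], hqe]
        exact dvd_pow_self 2 (by omega)
      · rw [block, Matrix.coe_reindexAlgEquiv, Matrix.det_reindex_self,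
          Matrix.det_fromBlocks_zero₂₁, Matrix.det_one, one_mul, Matrix.det_blockDiagonal,
          Finset.prod_const, hZd, one_pow]
  refine ⟨Matrix.GeneralLinearGroup.mkOfDetNeZero (block k Z) (hdet ▸ one_ne_zero), r, j, hr,
    hnp r hr hd, Units.ext ?_, hdet, not_dvd_geom hr hd, block_e₀ Z, fun u c h => block_eigen hZ h⟩
  rw [Units.val_pow_eq_pow_val]
  show block k Z ^ r ^ j = 1
  rw [block_pow, hZp, block_one]

end CfsgLib.MinCover.PGL
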