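import Cfsg.Agent.MinCover.Exchange
import Cfsg.Agent.MinCover.PGL.Blocks

/-!
Groups between `PSL_n` and `PGL_n`, `n ≥ 3`, have no nilpotent minimal cover.
-/

set_option autoImplicit false

open Matrix

namespace CfsgLib.MinCover.PGL

variable {F : Type*} [Field F] [Fintype F]

/-- The first point. -/
noncomputable def pt₀ (F : Type*) [Field F] (m : ℕ) : Pt F (m + 1) :=
  Projectivization.mk F (e₀ F m) e₀_ne_zero

theorem smul_pt₀ {m : ℕ} {g : GL (Fin (m + 1)) F}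
    (hg : (g : Matrix (Fin (m + 1)) (Fin (m + 1)) F) *ᵥ e₀ F m = e₀ F m) :
    (QuotientGroup.mk g : Gq F (m + 1)) • pt₀ F m = pt₀ F m :=
  (smul_mk_eq_iff g e₀_ne_zero).mpr ⟨1, by rw [one_smul]; exact hg⟩

theorem fix_unique {m : ℕ} {g : GL (Fin (m + 1)) F}
    (hg : ∀ (u : Fin (m + 1) → F) (c : F),
      (g : Matrix (Fin (m + 1)) (Fin (m + 1)) F) *ᵥ u = c • u → u = u 0 • e₀ F m)
    (ω : Pt F (m + 1)) (h : (QuotientGroup.mk g : Gq F (m + 1)) • ω = ω) : ω = pt₀ F m := by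
  induction ω using Projectivization.ind with
  | h v hv =>
    obtain ⟨c, hc⟩ := (smul_mk_eq_iff g hv).mp h
    exact (Projectivization.mk_eq_mk_iff' F _ _ _ _).mpr ⟨v 0, (hg v c hc).symm⟩

theorem not_dvd_card_pt_of_dvd {p : ℕ} (hp : p.Prime) (hd : p ∣ Fintype.card F) (m : ℕ) :
    ¬ p ∣ Nat.card (Pt F (m + 1)) := by
  rw [card_pt, Finset.sum_range_succ', Nat.card_eq_fintype_card]
  intro h
  have h2 : p ∣ ∑ i ∈ Finset.range m, Fintype.card F ^ (i + 1) :=
    Finset.dvd_sum fun i _ => dvd_pow hd (by omega)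
  exact hp.one_lt.ne' (Nat.dvd_one.mp (by simpa using (Nat.dvd_add_right h2).mp h))

theorem no_cover_rank {m : ℕ} (hm : 2 ≤ m) (G : Subgroup (Gq F (m + 1)))
    (hG : ((Matrix.SpecialLinearGroup.toGL :
        Matrix.SpecialLinearGroup (Fin (m + 1)) F →* GL (Fin (m + 1)) F).range).map
      (QuotientGroup.mk' (Subgroup.center (GL (Fin (m + 1)) F))) ≤ G) :
    ¬ ∃ 𝓐 : Finset (Subgroup ↥G), ((∀ A ∈ 𝓐, A ≠ ⊤) ∧ (∀ g : ↥G, ∃ A ∈ 𝓐, g ∈ A)) ∧
      (∀ 𝓑 : Finset (Subgroup ↥G), (∀ A ∈ 𝓑, A ≠ ⊤) ∧ (∀ g : ↥G, ∃ A ∈ 𝓑, g ∈ A) →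
        𝓐.card ≤ 𝓑.card) ∧ (∀ A ∈ 𝓐, Group.IsNilpotent ↥A) := by
  classical
  obtain ⟨p, hp⟩ := CharP.exists F
  haveI : Fact p.Prime := ⟨CharP.char_is_prime F p⟩
  have hpr : p.Prime := Fact.out
  have hpq : p ∣ Fintype.card F := by
    obtain ⟨⟨a, ha⟩, -, he⟩ := FiniteField.card F p
    rw [he]
    exact dvd_pow_self p (by simpa using (Nat.pos_iff_ne_zero.mp ha))
  obtain ⟨x, r, j, hr, hrp, hxp, hxd, hΩ, hx0, hxfix⟩ := exists_block_elt (F := F) (p := p) hm
  haveI := Fact.mk hr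
  obtain ⟨y, hy, hyd, hyp⟩ := exists_unip_elt (F := F) (m := m) (p := p)
  let X : G := ⟨QuotientGroup.mk x, mk_mem_of_det hG hxd⟩
  let Y : G := ⟨QuotientGroup.mk y, mk_mem_of_det hG hyd⟩
  obtain ⟨k, hk⟩ := exists_orderOf_eq (mk_mem_of_det hG hxd) hr hxp
  obtain ⟨k', hk'⟩ := exists_orderOf_eq (mk_mem_of_det hG hyd) hpr hyp
  have hy0 : (y : Matrix (Fin (m + 1)) (Fin (m + 1)) F) *ᵥ e₀ F m = e₀ F m := by
    rw [hy]; exact unip_e₀
  have hyfix : ∀ (u : Fin (m + 1) → F) (c : F),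
      (y : Matrix (Fin (m + 1)) (Fin (m + 1)) F) *ᵥ u = c • u → u = u 0 • e₀ F m := by
    intro u c h; rw [hy] at h; exact unip_eigen h
  have hΩ' : ¬ r ∣ Nat.card (Pt F (m + 1)) := by
    rw [card_pt, Nat.card_eq_fintype_card]; exact hΩ
  have hM : MulAction.stabilizer G (pt₀ F m) ≠ ⊤ := by
    intro htop
    haveI : Nontrivial (Fin (m + 1)) := Fin.nontrivial_iff_two_le.mpr (by omega)
    obtain ⟨g, hg⟩ := CfsgLib.Classical.Linear.exists_sl_mulVec_eq (e₀_ne_zero (F := F) (m := m))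
      (w := Pi.single ⟨1, by omega⟩ 1) (fun e => by simpa using congrFun e ⟨1, by omega⟩)
    have hmem := mk_mem_of_det hG (g := Matrix.SpecialLinearGroup.toGL g) g.2
    have h : (QuotientGroup.mk (Matrix.SpecialLinearGroup.toGL g) : Gq F (m + 1)) • pt₀ F m =
        pt₀ F m := (htop ▸ Subgroup.mem_top _ : (⟨_, hmem⟩ : G) ∈ MulAction.stabilizer G (pt₀ F m))
    obtain ⟨c, hc⟩ := (smul_mk_eq_iff _ e₀_ne_zero).mp h
    have h2 : (Pi.single ⟨1, by omega⟩ 1 : Fin (m + 1) → F) = c • e₀ F m := hg ▸ hc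
    have := congrFun h2 ⟨1, by omega⟩
    simp [e₀, Fin.ext_iff] at this
  refine no_cover_of_two hM (x := X) (y := Y) hk ?_ ?_
    (nilForced_stabilizer_unique hk hΩ' (smul_pt₀ hx0) fun ω h => fix_unique hxfix ω h)
    (nilForced_stabilizer_unique hk' (not_dvd_card_pt_of_dvd hpr hpq m) (smul_pt₀ hy0)
      fun ω h => fix_unique hyfix ω h)
  · rw [hk']
    exact fun h => hrp ((Nat.prime_dvd_prime_iff_eq hr hpr).mp (hr.dvd_of_dvd_pow h))
  · intro hXY
    obtain ⟨c, hc⟩ := exists_scalar_of_commute (congrArg Subtype.val hXY :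
      (QuotientGroup.mk x : Gq F (m + 1)) * QuotientGroup.mk y =
        QuotientGroup.mk y * QuotientGroup.mk x)
    have hc1 : c = 1 := by
      have := congrFun (hc (e₀ F m)) 0
      rw [hy0, hx0, hy0] at this
      simpa [e₀] using this.symm
    subst hc1
    set e₁ : Fin (m + 1) → F := Pi.single ⟨1, by omega⟩ 1 with he₁
    have hNe : (y : Matrix (Fin (m + 1)) (Fin (m + 1)) F) *ᵥ e₁ = e₁ + e₀ F m := by
      rw [hy, unip, Matrix.add_mulVec, Matrix.one_mulVec]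
      congr 1
      ext i
      rw [shift_mulVec, he₁]
      by_cases hi : (i : ℕ) = 0
      · obtain rfl : i = 0 := Fin.ext hi
        rw [dif_pos (show ((0 : Fin (m + 1)) : ℕ) + 1 < m + 1 by simp; omega)]
        simp [e₀]
      · have h0 : e₀ F m i = 0 := Pi.single_eq_of_ne (fun e => hi (congrArg Fin.val e)) 1
        rw [h0]
        split_ifs with h
        · exact Pi.single_eq_of_ne (fun e => hi (Nat.succ.inj (congrArg Fin.val e))) 1
        · rfl
    set d := (x : Matrix (Fin (m + 1)) (Fin (m + 1)) F) *ᵥ e₁ - e₁ with hd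
    have hyd' : (y : Matrix (Fin (m + 1)) (Fin (m + 1)) F) *ᵥ d = (1 : F) • d := by
      have := hc e₁
      rw [hNe, Matrix.mulVec_add, hx0, one_smul] at this
      rw [hd, Matrix.mulVec_sub, ← this, hNe, one_smul]
      abel
    have hd0 := hyfix d 1 hyd'
    have hpow : ∀ i : ℕ, ((x ^ i : GL (Fin (m + 1)) F) : Matrix (Fin (m + 1)) (Fin (m + 1)) F) *ᵥ e₁
        = e₁ + (i * d 0 : F) • e₀ F m := by
      intro i
      induction i with
      | zero => simp
      | succ i ih =>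
        rw [pow_succ', Units.val_mul, ← Matrix.mulVec_mulVec, ih, Matrix.mulVec_add,
          Matrix.mulVec_smul, hx0, show (x : Matrix (Fin (m + 1)) (Fin (m + 1)) F) *ᵥ e₁ = e₁ + d by
            rw [hd]; abel]
        conv_lhs => rw [hd0]
        rw [Nat.cast_succ, add_mul, one_mul, add_smul]
        simp only [Pi.smul_apply, e₀, Pi.single_eq_same, smul_eq_mul, mul_one]
        abel
    have h1 := hpow (r ^ j)
    rw [hxp, Units.val_one, Matrix.one_mulVec, left_eq_add, smul_eq_zero] at h1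
    have h2 : d 0 = 0 := by
      rcases mul_eq_zero.mp (h1.resolve_right e₀_ne_zero) with h | h
      · exfalso
        rw [CharP.cast_eq_zero_iff F p] at h
        exact hrp ((Nat.prime_dvd_prime_iff_eq hpr hr).mp (hpr.dvd_of_dvd_pow h)).symm
      · exact h
    rw [h2, zero_smul] at hd0
    have h3 := hxfix e₁ 1 (by rw [one_smul]; exact sub_eq_zero.mp hd0)
    have := congrFun h3 ⟨1, by omega⟩
    simp [he₁, e₀, Fin.ext_iff] at this

end CfsgLib.MinCover.PGL
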