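import Cfsg.Agent.MinCover.PGL.Rank

/-!
`PSL_2` and `PGL_2`: the diagonal torus and the centraliser of a matrix without eigenvalues.
-/

set_option autoImplicit false

open Matrix

namespace CfsgLib.MinCover.PGL

variable {F : Type*} [Field F]

/-- The second standard vector. -/
def e₁ (F : Type*) [Field F] : Fin (1 + 1) → F := Pi.single 1 1

theorem e₁_ne_zero : e₁ F ≠ 0 := fun h => by simpa [e₁] using congrFun h 1

/-- The second point. -/
noncomputable def pt₁ (F : Type*) [Field F] : Pt F (1 + 1) :=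
  Projectivization.mk F (e₁ F) e₁_ne_zero

theorem pt₀_ne_pt₁ : pt₀ F 1 ≠ pt₁ F := fun h => by
  obtain ⟨c, hc⟩ := (Projectivization.mk_eq_mk_iff' F _ _ _ _).mp h
  simpa [e₀, e₁] using congrFun hc 0

/-- The diagonal element of determinant one. -/
def diagElt (a : Fˣ) : GL (Fin (1 + 1)) F :=
  ⟨Matrix.diagonal ![(a : F), (a⁻¹ : Fˣ)], Matrix.diagonal ![((a⁻¹ : Fˣ) : F), (a : F)],
    by ext i j; fin_cases i <;> fin_cases j <;> simp,
    by ext i j; fin_cases i <;> fin_cases j <;> simp⟩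

theorem diagElt_apply (a : Fˣ) (u : Fin (1 + 1) → F) :
    (diagElt a : Matrix (Fin (1 + 1)) (Fin (1 + 1)) F) *ᵥ u = ![a * u 0, (a⁻¹ : Fˣ) * u 1] := by
  ext i; fin_cases i <;> simp [diagElt, Matrix.mulVec_diagonal]

theorem det_diagElt (a : Fˣ) :
    (diagElt a : Matrix (Fin (1 + 1)) (Fin (1 + 1)) F).det = 1 := by
  simp [diagElt, Matrix.det_diagonal]

theorem diagElt_e₀ (a : Fˣ) :
    (diagElt a : Matrix (Fin (1 + 1)) (Fin (1 + 1)) F) *ᵥ e₀ F 1 = (a : F) • e₀ F 1 := by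
  rw [diagElt_apply]; ext i; fin_cases i <;> simp [e₀]

theorem diagElt_e₁ (a : Fˣ) :
    (diagElt a : Matrix (Fin (1 + 1)) (Fin (1 + 1)) F) *ᵥ e₁ F = ((a⁻¹ : Fˣ) : F) • e₁ F := by
  rw [diagElt_apply]; ext i; fin_cases i <;> simp [e₁]

theorem diagElt_pow (a : Fˣ) (i : ℕ) : diagElt a ^ i = diagElt (a ^ i) := by
  induction i with
  | zero => refine Units.ext ?_; ext s t; fin_cases s <;> fin_cases t <;> simp [diagElt]
  | succ i ih =>
    rw [pow_succ, ih, pow_succ]
    refine Units.ext ?_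
    ext s t
    fin_cases s <;> fin_cases t <;> simp [diagElt, mul_comm]

theorem diagElt_one : diagElt (1 : Fˣ) = 1 := by
  simpa using (diagElt_pow (1 : Fˣ) 0).symm

theorem diagElt_fix {a : Fˣ} (ha : a ^ 2 ≠ 1) (ω : Pt F (1 + 1))
    (h : (QuotientGroup.mk (diagElt a) : Gq F (1 + 1)) • ω = ω) : ω = pt₀ F 1 ∨ ω = pt₁ F := by
  induction ω using Projectivization.ind with
  | h v hv =>
    obtain ⟨c, hc⟩ := (smul_mk_eq_iff _ hv).mp h
    rw [diagElt_apply] at hc
    by_cases h1 : v 1 = 0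
    · left
      refine (Projectivization.mk_eq_mk_iff' F _ _ _ _).mpr ⟨v 0, ?_⟩
      exact (eq_smul_e₀ fun i hi => by
        fin_cases i
        · exact absurd rfl hi
        · exact h1).symm
    · right
      have c1 : c = ((a⁻¹ : Fˣ) : F) := mul_right_cancel₀ h1 (by simpa using (congrFun hc 1).symm)
      have h0 : v 0 = 0 := by
        by_contra h0
        have c0 : c = (a : F) := mul_right_cancel₀ h0 (by simpa using (congrFun hc 0).symm)
        refine ha ?_
        have e : a⁻¹ = a := Units.ext (c1.symm.trans c0)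
        rw [pow_two]
        nth_rw 1 [← e]
        rw [inv_mul_cancel]
      refine (Projectivization.mk_eq_mk_iff' F _ _ _ _).mpr ⟨v 1, ?_⟩
      ext i; fin_cases i
      · simp [e₁, h0]
      · simp [e₁]

theorem smul_pt₁ {g : GL (Fin (1 + 1)) F} {c : F}
    (hg : (g : Matrix (Fin (1 + 1)) (Fin (1 + 1)) F) *ᵥ e₁ F = c • e₁ F) :
    (QuotientGroup.mk g : Gq F (1 + 1)) • pt₁ F = pt₁ F :=
  (smul_mk_eq_iff g e₁_ne_zero).mpr ⟨c, hg⟩

theorem smul_pt₀' {g : GL (Fin (1 + 1)) F} {c : F}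
    (hg : (g : Matrix (Fin (1 + 1)) (Fin (1 + 1)) F) *ᵥ e₀ F 1 = c • e₀ F 1) :
    (QuotientGroup.mk g : Gq F (1 + 1)) • pt₀ F 1 = pt₀ F 1 :=
  (smul_mk_eq_iff g e₀_ne_zero).mpr ⟨c, hg⟩

/-- Nothing commuting with a diagonal element of large order exchanges its fixed points. -/
theorem commute_diag_fix {a : Fˣ} (ha : a ^ 4 ≠ 1) {g : Gq F (1 + 1)}
    (hg : g * QuotientGroup.mk (diagElt a) = QuotientGroup.mk (diagElt a) * g) :
    g • pt₀ F 1 = pt₀ F 1 := by
  obtain ⟨M, rfl⟩ := QuotientGroup.mk'_surjective _ g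
  obtain ⟨c, hc⟩ := exists_scalar_of_commute hg
  set w := (M : Matrix (Fin (1 + 1)) (Fin (1 + 1)) F) *ᵥ e₀ F 1 with hw
  set z := (M : Matrix (Fin (1 + 1)) (Fin (1 + 1)) F) *ᵥ e₁ F with hz
  have h0 := hc (e₀ F 1)
  have h1 := hc (e₁ F)
  rw [diagElt_e₀, Matrix.mulVec_smul, ← hw, diagElt_apply] at h0
  rw [diagElt_e₁, Matrix.mulVec_smul, ← hz, diagElt_apply] at h1
  have a0 : (a : F) * w 0 = c * (a * w 0) := by simpa using congrFun h0 0
  have a1 : (a : F) * w 1 = c * ((a⁻¹ : Fˣ) * w 1) := by simpa using congrFun h0 1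
  have b0 : ((a⁻¹ : Fˣ) : F) * z 0 = c * (a * z 0) := by simpa using congrFun h1 0
  by_cases hw1 : w 1 = 0
  · refine smul_pt₀' (c := w 0) ?_
    rw [← hw]
    exact eq_smul_e₀ fun i hi => by
      fin_cases i
      · exact absurd rfl hi
      · exact hw1
  exfalso
  have hc2 : c = (a : F) ^ 2 := by
    have := mul_right_cancel₀ hw1 (show (a : F) * w 1 = c * ((a⁻¹ : Fˣ) : F) * w 1 by
      rw [mul_assoc]; exact a1)
    calc c = c * ((a⁻¹ : Fˣ) : F) * (a : F) := by rw [mul_assoc, Units.inv_mul, mul_one]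
      _ = (a : F) ^ 2 := by rw [← this, pow_two]
  have hz0 : z 0 ≠ 0 := by
    intro hz0
    have hw0 : w 0 = 0 := by
      by_contra hw0
      have hc1 : c = 1 := mul_right_cancel₀ (mul_ne_zero a.ne_zero hw0) (by rw [one_mul]; exact a0.symm)
      apply ha
      rw [hc1] at hc2
      apply Units.ext
      rw [Units.val_pow_eq_pow_val, Units.val_one, show (a : F) ^ 4 = ((a : F) ^ 2) ^ 2 by ring,
        ← hc2, one_pow]
    have hv : z 1 • e₀ F 1 - w 1 • e₁ F = 0 := by
      have hinj : Function.Injective ((M : Matrix (Fin (1 + 1)) (Fin (1 + 1)) F) *ᵥ ·) := fun u v h => by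
        simpa [smul_vec] using MulAction.injective M (show M • u = M • v from h)
      refine hinj ?_
      show (M : Matrix (Fin (1 + 1)) (Fin (1 + 1)) F) *ᵥ _ = (M : Matrix (Fin (1 + 1)) (Fin (1 + 1)) F) *ᵥ 0
      rw [Matrix.mulVec_sub, Matrix.mulVec_smul, Matrix.mulVec_smul, Matrix.mulVec_zero, ← hw, ← hz]
      ext i; fin_cases i
      · simp [hz0, hw0]
      · simp [mul_comm]
    exact hw1 (by simpa [e₀, e₁] using congrFun hv 1)
  have h3 : ((a⁻¹ : Fˣ) : F) = (a : F) ^ 3 := mul_right_cancel₀ hz0 (by rw [b0, hc2]; ring)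
  apply ha
  apply Units.ext
  rw [Units.val_pow_eq_pow_val, Units.val_one]
  calc (a : F) ^ 4 = (a : F) ^ 3 * a := by ring
    _ = 1 := by rw [← h3, Units.inv_mul]

variable [Fintype F]

/-- The centraliser of a matrix without eigenvalues. -/
theorem card_centralizer_of_no_eigen (M : GL (Fin (1 + 1)) F)
    (hM : ∀ (u : Fin (1 + 1) → F) (c : F),
      (M : Matrix (Fin (1 + 1)) (Fin (1 + 1)) F) *ᵥ u = c • u → u = 0) :
    Nat.card (Subgroup.centralizer ({M} : Set (GL (Fin (1 + 1)) F))) = Fintype.card F ^ 2 - 1 := by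
  classical
  set A := (M : Matrix (Fin (1 + 1)) (Fin (1 + 1)) F) with hA
  have hdet : ∀ b : F × F, b ≠ 0 → (b.1 • (1 : Matrix (Fin (1 + 1)) (Fin (1 + 1)) F) + b.2 • A).det ≠ 0 := by
    intro b hb hd
    obtain ⟨u, hu, hu0⟩ := Matrix.exists_mulVec_eq_zero_iff.mpr hd
    rw [Matrix.add_mulVec, Matrix.smul_mulVec, Matrix.smul_mulVec, Matrix.one_mulVec] at hu0
    by_cases h2 : b.2 = 0
    · rw [h2, zero_smul, add_zero, smul_eq_zero] at hu0
      exact hb (Prod.ext (hu0.resolve_right hu) h2)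
    · refine hu (hM u (-b.1 / b.2) ?_)
      have h := congrArg (fun v => b.2⁻¹ • v) hu0
      simp only [smul_add, smul_smul, smul_zero, inv_mul_cancel₀ h2, one_smul] at h
      rw [eq_neg_of_add_eq_zero_right h, ← neg_smul]
      congr 1
      field_simp
  let f : {b : F × F // b ≠ 0} → Subgroup.centralizer ({M} : Set (GL (Fin (1 + 1)) F)) := fun b =>
    ⟨Matrix.GeneralLinearGroup.mkOfDetNeZero _ (hdet b.1 b.2), by
      rw [Subgroup.mem_centralizer_singleton_iff]
      refine Units.ext ?_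
      show (b.1.1 • (1 : Matrix (Fin (1 + 1)) (Fin (1 + 1)) F) + b.1.2 • A) * A =
        A * (b.1.1 • (1 : Matrix (Fin (1 + 1)) (Fin (1 + 1)) F) + b.1.2 • A)
      rw [Matrix.add_mul, Matrix.mul_add, Matrix.smul_mul, Matrix.smul_mul, Matrix.mul_smul,
        Matrix.mul_smul, Matrix.one_mul, Matrix.mul_one]⟩
  have hindep : ∀ s t : F, s • e₀ F 1 + t • (A *ᵥ e₀ F 1) = 0 → s = 0 ∧ t = 0 := by
    intro s t h
    by_cases ht : t = 0
    · rw [ht, zero_smul, add_zero, smul_eq_zero] at h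
      exact ⟨h.resolve_right e₀_ne_zero, ht⟩
    · exfalso
      refine e₀_ne_zero (hM (e₀ F 1) (-s / t) ?_)
      have h' := congrArg (fun v => t⁻¹ • v) h
      simp only [smul_add, smul_smul, smul_zero, inv_mul_cancel₀ ht, one_smul] at h'
      rw [eq_neg_of_add_eq_zero_right h', ← neg_smul]
      congr 1
      field_simp
  have happ : ∀ b, (((f b).1 : GL (Fin (1 + 1)) F) : Matrix (Fin (1 + 1)) (Fin (1 + 1)) F) *ᵥ e₀ F 1 =
      b.1.1 • e₀ F 1 + b.1.2 • (A *ᵥ e₀ F 1) := fun b => by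
    show (b.1.1 • (1 : Matrix (Fin (1 + 1)) (Fin (1 + 1)) F) + b.1.2 • A) *ᵥ e₀ F 1 = _
    rw [Matrix.add_mulVec, Matrix.smul_mulVec, Matrix.smul_mulVec, Matrix.one_mulVec]
  have hinj : Function.Injective f := by
    intro b b' h
    have e := congrArg (fun g : Subgroup.centralizer ({M} : Set (GL (Fin (1 + 1)) F)) =>
      ((g.1 : GL (Fin (1 + 1)) F) : Matrix (Fin (1 + 1)) (Fin (1 + 1)) F) *ᵥ e₀ F 1) h
    simp only [happ] at e
    obtain ⟨h1, h2⟩ := hindep (b.1.1 - b'.1.1) (b.1.2 - b'.1.2) (by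
      rw [sub_smul, sub_smul]
      linear_combination (norm := module) e)
    exact Subtype.ext (Prod.ext (sub_eq_zero.mp h1) (sub_eq_zero.mp h2))
  have hsurj : Function.Surjective f := by
    intro g
    let L : F × F →ₗ[F] (Fin (1 + 1) → F) :=
      ((LinearMap.fst F F F).smulRight (e₀ F 1)) + ((LinearMap.snd F F F).smulRight (A *ᵥ e₀ F 1))
    have hLinj : Function.Injective L := (injective_iff_map_eq_zero L).mpr fun b hb => by
      obtain ⟨h1, h2⟩ := hindep b.1 b.2 hb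
      exact Prod.ext h1 h2
    have hLsurj : Function.Surjective L :=
      (LinearMap.injective_iff_surjective_of_finrank_eq_finrank (by simp)).mp hLinj
    obtain ⟨b, hb⟩ := hLsurj (((g.1 : GL (Fin (1 + 1)) F) : Matrix (Fin (1 + 1)) (Fin (1 + 1)) F) *ᵥ e₀ F 1)
    change b.1 • e₀ F 1 + b.2 • (A *ᵥ e₀ F 1) = _ at hb
    have hb0 : b ≠ 0 := by
      rintro rfl
      rw [Prod.fst_zero, Prod.snd_zero, zero_smul, zero_smul, add_zero] at hb
      exact e₀_ne_zero (MulAction.injective g.1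
        (show g.1 • e₀ F 1 = g.1 • (0 : Fin (1 + 1) → F) from hb.symm.trans (Matrix.mulVec_zero _).symm))
    refine ⟨⟨b, hb0⟩, Subtype.ext (Units.ext (ext_single fun i => ?_))⟩
    have hcomm : ∀ g' : Subgroup.centralizer ({M} : Set (GL (Fin (1 + 1)) F)),
        ((g'.1 : GL (Fin (1 + 1)) F) : Matrix (Fin (1 + 1)) (Fin (1 + 1)) F) *ᵥ (A *ᵥ e₀ F 1) =
          A *ᵥ (((g'.1 : GL (Fin (1 + 1)) F) : Matrix (Fin (1 + 1)) (Fin (1 + 1)) F) *ᵥ e₀ F 1) := by
      intro g'
      have h := Subgroup.mem_centralizer_singleton_iff.mp g'.2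
      rw [Matrix.mulVec_mulVec, Matrix.mulVec_mulVec]
      exact congrArg (fun X : GL (Fin (1 + 1)) F =>
        (X : Matrix (Fin (1 + 1)) (Fin (1 + 1)) F) *ᵥ e₀ F 1) h
    obtain ⟨s, hs⟩ := hLsurj (Pi.single i 1)
    change s.1 • e₀ F 1 + s.2 • (A *ᵥ e₀ F 1) = _ at hs
    rw [← hs, Matrix.mulVec_add, Matrix.mulVec_add, Matrix.mulVec_smul, Matrix.mulVec_smul,
      Matrix.mulVec_smul, Matrix.mulVec_smul, hcomm, hcomm, happ, hb]
  rw [Nat.card_congr (Equiv.ofBijective f ⟨hinj, hsurj⟩).symm, Nat.card_eq_fintype_card,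
    Fintype.card_subtype_compl, Fintype.card_subtype_eq, Fintype.card_prod, pow_two]

/-- In the class group of a matrix without eigenvalues all orders divide `q + 1`. -/
theorem pow_succ_card_eq_one (M : GL (Fin (1 + 1)) F)
    (hM : ∀ (u : Fin (1 + 1) → F) (c : F),
      (M : Matrix (Fin (1 + 1)) (Fin (1 + 1)) F) *ᵥ u = c • u → u = 0) :
    (QuotientGroup.mk M : Gq F (1 + 1)) ^ (Fintype.card F + 1) = 1 := by
  classical
  set C := Subgroup.centralizer ({M} : Set (GL (Fin (1 + 1)) F))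
  set Z := Subgroup.center (GL (Fin (1 + 1)) F)
  have hZC : Z ≤ C := Subgroup.center_le_centralizer _
  haveI : (Z.subgroupOf C).Normal := inferInstance
  have hcardZ : Nat.card Z = Fintype.card F - 1 := by
    rw [show Z = (Matrix.GeneralLinearGroup.scalar (R := F) (Fin (1 + 1))).range from
      Matrix.GeneralLinearGroup.center_eq_range_scalar,
      Nat.card_congr (MonoidHom.ofInjective (f := Matrix.GeneralLinearGroup.scalar (R := F) (Fin (1 + 1)))
        (fun a b h => Units.ext (by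
          simpa using congrArg (fun g : GL (Fin (1 + 1)) F =>
            (g : Matrix (Fin (1 + 1)) (Fin (1 + 1)) F) 0 0) h))).toEquiv.symm,
      Nat.card_units, Nat.card_eq_fintype_card]
  have hidx : (Z.subgroupOf C).index = Fintype.card F + 1 := by
    have h1 := (Z.subgroupOf C).card_mul_index
    rw [Nat.card_congr (Subgroup.subgroupOfEquivOfLe hZC).toEquiv, hcardZ,
      card_centralizer_of_no_eigen M hM] at h1
    have h2 : 1 < Fintype.card F := Fintype.one_lt_card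
    obtain ⟨t, ht⟩ : ∃ t, Fintype.card F = t + 2 := ⟨Fintype.card F - 2, by omega⟩
    rw [ht] at h1 ⊢
    rw [show (t + 2) ^ 2 - 1 = (t + 1) * (t + 2 + 1) by
      rw [show (t + 2) ^ 2 = (t + 1) * (t + 2 + 1) + 1 by ring, Nat.add_sub_cancel]] at h1
    exact Nat.eq_of_mul_eq_mul_left (Nat.succ_pos t) h1
  have hMC : M ∈ C := Subgroup.mem_centralizer_singleton_iff.mpr rfl
  have h3 := (Z.subgroupOf C).pow_index_mem ⟨M, hMC⟩
  rw [hidx, Subgroup.mem_subgroupOf] at h3
  rw [← QuotientGroup.mk_pow, QuotientGroup.eq_one_iff]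
  exact h3

end CfsgLib.MinCover.PGL
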