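import Cfsg.Agent.MinCover.PGL.Torus

/-!
Groups between `PSL_2(q)` and `PGL_2(q)`, `q ≥ 4`, have no nilpotent minimal cover.
-/

set_option autoImplicit false

open Matrix

namespace CfsgLib.MinCover.PGL

variable {F : Type*} [Field F] [Fintype F]

theorem smul_mk_mulVec {n : ℕ} (g : GL (Fin n) F) {v w : Fin n → F} (hv : v ≠ 0) (hw : w ≠ 0)
    (h : (g : Matrix (Fin n) (Fin n) F) *ᵥ v = w) :
    (QuotientGroup.mk g : Gq F n) • (Projectivization.mk F v hv : Pt F n) =
      Projectivization.mk F w hw := by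
  rw [mk_smul, Projectivization.smul_mk, Projectivization.mk_eq_mk_iff']
  exact ⟨1, by rw [one_smul, smul_vec, h]⟩

variable {G : Subgroup (Gq F (1 + 1))}
  (hG : ((Matrix.SpecialLinearGroup.toGL :
      Matrix.SpecialLinearGroup (Fin (1 + 1)) F →* GL (Fin (1 + 1)) F).range).map
    (QuotientGroup.mk' (Subgroup.center (GL (Fin (1 + 1)) F))) ≤ G)

include hG in
theorem stabilizer_ne_top (v : Pt F (1 + 1)) : MulAction.stabilizer G v ≠ ⊤ := by
  intro htop
  haveI : Nontrivial (Fin (1 + 1)) := Fin.nontrivial_iff_two_le.mpr le_rfl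
  induction v using Projectivization.ind with
  | h v hv =>
    by_cases h0 : v 1 = 0
    · obtain ⟨g, hg⟩ := CfsgLib.Classical.Linear.exists_sl_mulVec_eq hv (e₁_ne_zero (F := F))
      have hmem := mk_mem_of_det hG (g := Matrix.SpecialLinearGroup.toGL g) g.2
      have h : (⟨_, hmem⟩ : G) ∈ MulAction.stabilizer G (Projectivization.mk F v hv) :=
        htop ▸ Subgroup.mem_top _
      have h' : Projectivization.mk F (e₁ F) e₁_ne_zero = Projectivization.mk F v hv :=
        (smul_mk_mulVec (Matrix.SpecialLinearGroup.toGL g) hv e₁_ne_zero hg).symm.trans h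
      obtain ⟨c, hc⟩ := (Projectivization.mk_eq_mk_iff' F _ _ _ _).mp h'
      simpa [e₁, h0] using congrFun hc 1
    · obtain ⟨g, hg⟩ := CfsgLib.Classical.Linear.exists_sl_mulVec_eq hv (e₀_ne_zero (F := F) (m := 1))
      have hmem := mk_mem_of_det hG (g := Matrix.SpecialLinearGroup.toGL g) g.2
      have h : (⟨_, hmem⟩ : G) ∈ MulAction.stabilizer G (Projectivization.mk F v hv) :=
        htop ▸ Subgroup.mem_top _
      have h' : Projectivization.mk F (e₀ F 1) e₀_ne_zero = Projectivization.mk F v hv :=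
        (smul_mk_mulVec (Matrix.SpecialLinearGroup.toGL g) hv e₀_ne_zero hg).symm.trans h
      obtain ⟨c, hc⟩ := (Projectivization.mk_eq_mk_iff' F _ _ _ _).mp h'
      have := congrFun hc 1
      simp [e₀] at this
      rcases this with h1 | h1
      · exact e₀_ne_zero (F := F) (m := 1) (by rw [← hc, h1, zero_smul])
      · exact h0 h1

include hG in
/-- The case of an odd prime dividing `q - 1`. -/
theorem no_cover_two_odd {r : ℕ} (hr : r.Prime) (hr2 : r ≠ 2) (hrd : r ∣ Fintype.card F - 1) :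
    ¬ ∃ 𝓐 : Finset (Subgroup ↥G), ((∀ A ∈ 𝓐, A ≠ ⊤) ∧ (∀ g : ↥G, ∃ A ∈ 𝓐, g ∈ A)) ∧
      (∀ 𝓑 : Finset (Subgroup ↥G), (∀ A ∈ 𝓑, A ≠ ⊤) ∧ (∀ g : ↥G, ∃ A ∈ 𝓑, g ∈ A) →
        𝓐.card ≤ 𝓑.card) ∧ (∀ A ∈ 𝓐, Group.IsNilpotent ↥A) := by
  classical
  haveI := Fact.mk hr
  obtain ⟨p, hp⟩ := CharP.exists F
  haveI : Fact p.Prime := ⟨CharP.char_is_prime F p⟩
  have hpr : p.Prime := Fact.out
  have hpq : p ∣ Fintype.card F := by
    obtain ⟨⟨a, ha⟩, -, he⟩ := FiniteField.card F p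
    rw [he]
    exact dvd_pow_self p (by simpa using (Nat.pos_iff_ne_zero.mp ha))
  have hrp : r ≠ p := by
    rintro rfl
    have h1 : 1 < Fintype.card F := Fintype.one_lt_card
    have := (Nat.dvd_sub hpq hrd)
    rw [show Fintype.card F - (Fintype.card F - 1) = 1 by omega] at this
    exact hr.one_lt.ne' (Nat.dvd_one.mp this)
  obtain ⟨a, ha⟩ := exists_prime_orderOf_dvd_card' (G := Fˣ) r
    (by rw [Nat.card_units, Nat.card_eq_fintype_card]; exact hrd)
  have ha4 : a ^ 4 ≠ 1 := by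
    intro h
    have h4 := orderOf_dvd_of_pow_eq_one h
    rw [ha] at h4
    have : r ∣ 2 := hr.dvd_of_dvd_pow (show r ∣ 2 ^ 2 from h4)
    exact hr2 ((Nat.prime_dvd_prime_iff_eq hr Nat.prime_two).mp this)
  have ha2 : a ^ 2 ≠ 1 := fun h => ha4 (by rw [show 4 = 2 * 2 from rfl, pow_mul, h, one_pow])
  have hxp : diagElt a ^ r ^ 1 = 1 := by
    rw [pow_one, diagElt_pow, ← ha, pow_orderOf_eq_one, diagElt_one]
  obtain ⟨y, hy, hyd, hyp⟩ := exists_unip_elt (F := F) (m := 1) (p := p)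
  obtain ⟨k, hk⟩ := exists_orderOf_eq (mk_mem_of_det hG (det_diagElt a)) hr hxp
  obtain ⟨k', hk'⟩ := exists_orderOf_eq (mk_mem_of_det hG hyd) hpr hyp
  have hy0 : (y : Matrix (Fin (1 + 1)) (Fin (1 + 1)) F) *ᵥ e₀ F 1 = e₀ F 1 := by
    rw [hy]; exact unip_e₀
  have hΩ : ¬ r ∣ Nat.card (Pt F (1 + 1)) := by
    rw [card_pt, Nat.card_eq_fintype_card]
    simp only [Finset.sum_range_succ, Finset.sum_range_zero, zero_add, pow_zero, pow_one]
    intro h
    have h1 : 1 < Fintype.card F := Fintype.one_lt_card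
    have := Nat.dvd_sub h hrd
    rw [show 1 + Fintype.card F - (Fintype.card F - 1) = 2 by omega] at this
    exact hr2 ((Nat.prime_dvd_prime_iff_eq hr Nat.prime_two).mp this)
  refine no_cover_of_two (stabilizer_ne_top hG (pt₀ F 1)) hk (y := ⟨_, mk_mem_of_det hG hyd⟩) ?_ ?_
    (nilForced_stabilizer hk hΩ (w := pt₁ F) (fun ω h => diagElt_fix ha2 ω h)
      fun g hg => commute_diag_fix ha4 (congrArg Subtype.val hg))
    (nilForced_stabilizer_unique hk' (not_dvd_card_pt_of_dvd hpr hpq 1) (smul_pt₀ hy0)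
      fun ω h => fix_unique (fun u c h => by rw [hy] at h; exact unip_eigen h) ω h)
  · rw [hk']
    exact fun h => hrp ((Nat.prime_dvd_prime_iff_eq hr hpr).mp (hr.dvd_of_dvd_pow h))
  · intro hXY
    obtain ⟨c, hc⟩ := exists_scalar_of_commute (congrArg Subtype.val hXY :
      (QuotientGroup.mk (diagElt a) : Gq F (1 + 1)) * QuotientGroup.mk y =
        QuotientGroup.mk y * QuotientGroup.mk (diagElt a))
    have h1 : (y : Matrix (Fin (1 + 1)) (Fin (1 + 1)) F) *ᵥ e₁ F = e₀ F 1 + e₁ F := by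
      rw [hy, unip, Matrix.add_mulVec, Matrix.one_mulVec, add_comm (e₀ F 1)]
      congr 1
      ext i
      fin_cases i <;> simp [shift_mulVec, e₀, e₁]
    have h2 := hc (e₁ F)
    rw [h1, diagElt_e₁, Matrix.mulVec_smul, h1, Matrix.mulVec_add, diagElt_e₀, diagElt_e₁] at h2
    have c0 : (a : F) = c * ((a⁻¹ : Fˣ) : F) := by simpa [e₀, e₁] using congrFun h2 0
    have c1 : ((a⁻¹ : Fˣ) : F) = c * ((a⁻¹ : Fˣ) : F) := by simpa [e₀, e₁] using congrFun h2 1
    apply ha2
    have e : a⁻¹ = a := Units.ext (c1.trans c0.symm)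
    rw [pow_two]
    nth_rw 1 [← e]
    rw [inv_mul_cancel]

omit [Fintype F] in
/-- A fixed point free element of square one and an element of odd order commuting with it. -/
theorem mem_of_mul_mem {A : Subgroup (Gq F (1 + 1))} {s z : Gq F (1 + 1)} (hs : s ^ 2 = 1)
    (hsz : s * z = z * s) {r : ℕ} (hr : Odd r) (hz : z ^ r = 1) (h : s * z ∈ A) : s ∈ A := by
  obtain ⟨i, rfl⟩ := hr
  have h2 := A.pow_mem h (2 * i + 1)
  rwa [Commute.mul_pow hsz, hz, mul_one, pow_succ, pow_mul, hs, one_pow, one_mul] at h2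

set_option maxHeartbeats 1000000 in
include hG in
/-- The case in which `q - 1` is a power of two. -/
theorem no_cover_two_even {k : ℕ} (hk : 2 ≤ k) (hq : Fintype.card F - 1 = 2 ^ k) :
    ¬ ∃ 𝓐 : Finset (Subgroup ↥G), ((∀ A ∈ 𝓐, A ≠ ⊤) ∧ (∀ g : ↥G, ∃ A ∈ 𝓐, g ∈ A)) ∧
      (∀ 𝓑 : Finset (Subgroup ↥G), (∀ A ∈ 𝓑, A ≠ ⊤) ∧ (∀ g : ↥G, ∃ A ∈ 𝓑, g ∈ A) →
        𝓐.card ≤ 𝓑.card) ∧ (∀ A ∈ 𝓐, Group.IsNilpotent ↥A) := by
  classical
  rintro ⟨𝓐, ⟨hne, hcov⟩, hmin, hnil⟩
  haveI : Fact (Nat.Prime 2) := ⟨Nat.prime_two⟩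
  haveI := Fintype.ofFinite (Pt F (1 + 1))
  set q := Fintype.card F with hqdef
  have h4 : 4 ∣ q - 1 := hq ▸ pow_dvd_pow 2 hk
  have hq1 : 1 < q := Fintype.one_lt_card
  obtain ⟨p, hp⟩ := CharP.exists F
  haveI : Fact p.Prime := ⟨CharP.char_is_prime F p⟩
  have hpr : p.Prime := Fact.out
  have hpq : p ∣ q := by
    obtain ⟨⟨a, ha⟩, -, he⟩ := FiniteField.card F p
    rw [hqdef, he]
    exact dvd_pow_self p (by simpa using (Nat.pos_iff_ne_zero.mp ha))
  have hp2 : p ≠ 2 := by rintro rfl; omega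
  -- one member for each point
  obtain ⟨y, hy, hyd, hyp⟩ := exists_unip_elt (F := F) (m := 1) (p := p)
  have hy0 : (y : Matrix (Fin (1 + 1)) (Fin (1 + 1)) F) *ᵥ e₀ F 1 = e₀ F 1 := by
    rw [hy]; exact unip_e₀
  have hu : ∀ v : Pt F (1 + 1), ∃ (u : G) (i : ℕ), orderOf u = p ^ i ∧ u • v = v ∧
      ∀ ω, u • ω = ω → ω = v := by
    intro v
    induction v using Projectivization.ind with
    | h w hw =>
      haveI : Nontrivial (Fin (1 + 1)) := Fin.nontrivial_iff_two_le.mpr le_rfl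
      obtain ⟨g, hg⟩ := CfsgLib.Classical.Linear.exists_sl_mulVec_eq (e₀_ne_zero (F := F) (m := 1)) hw
      set h : GL (Fin (1 + 1)) F := Matrix.SpecialLinearGroup.toGL g with hh
      have hd : ((h * y * h⁻¹ : GL (Fin (1 + 1)) F) : Matrix (Fin (1 + 1)) (Fin (1 + 1)) F).det = 1 := by
        rw [Units.val_mul, Units.val_mul, Matrix.det_units_conj]; exact hyd
      obtain ⟨i, hi⟩ := exists_orderOf_eq (mk_mem_of_det hG hd) hpr
        (show (h * y * h⁻¹) ^ p ^ (1 + 1) = 1 by rw [conj_pow, hyp, mul_one, mul_inv_cancel])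
      have hpt : (QuotientGroup.mk h : Gq F (1 + 1)) • pt₀ F 1 = Projectivization.mk F w hw :=
        smul_mk_mulVec h e₀_ne_zero hw hg
      have key : ∀ ω : Pt F (1 + 1), (QuotientGroup.mk (h * y * h⁻¹) : Gq F (1 + 1)) • ω = ω ↔
          (QuotientGroup.mk y : Gq F (1 + 1)) • ((QuotientGroup.mk h : Gq F (1 + 1))⁻¹ • ω) =
            (QuotientGroup.mk h : Gq F (1 + 1))⁻¹ • ω := by
        intro ω
        rw [QuotientGroup.mk_mul, QuotientGroup.mk_mul, QuotientGroup.mk_inv, mul_smul, mul_smul,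
          eq_inv_smul_iff]
      refine ⟨_, i, hi, ?_, fun ω hω => ?_⟩
      · refine (key _).mpr ?_
        rw [← hpt, inv_smul_smul]
        exact smul_pt₀ hy0
      · have := fix_unique (fun u c h => by rw [hy] at h; exact unip_eigen h) _ ((key ω).mp hω)
        rw [inv_smul_eq_iff] at this
        rw [this, hpt]
  choose u iu hiu huv hufix using hu
  choose Av hAv huA using fun v => hcov (u v)
  have hle : ∀ v, Av v ≤ MulAction.stabilizer G v := fun v =>
    nilForced_stabilizer_unique (hiu v) (not_dvd_card_pt_of_dvd hpr hpq 1) (huv v) (hufix v) _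
      (hnil _ (hAv v)) (huA v)
  have hinj : Function.Injective Av := fun v w h => (hufix v w (hle w (h ▸ huA v))).symm
  -- a member at a torus element
  obtain ⟨a, ha⟩ := IsCyclic.exists_ofOrder_eq_natCard (α := Fˣ)
  rw [Nat.card_units, Nat.card_eq_fintype_card, ← hqdef, hq] at ha
  have ha2 : a ^ 2 ≠ 1 := fun h => by
    have h2 := Nat.le_of_dvd two_pos (ha ▸ orderOf_dvd_of_pow_eq_one h)
    have : 2 ^ 2 ≤ 2 ^ k := Nat.pow_le_pow_right two_pos hk
    omega
  obtain ⟨kt, hkt⟩ := exists_orderOf_eq (mk_mem_of_det hG (det_diagElt a)) Nat.prime_two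
    (show diagElt a ^ 2 ^ k = 1 by rw [diagElt_pow, ← ha, pow_orderOf_eq_one, diagElt_one])
  set t : G := ⟨_, mk_mem_of_det hG (det_diagElt a)⟩
  obtain ⟨At, hAt, htA⟩ := hcov t
  haveI := hnil At hAt
  have hAtne : ∀ v, At ≠ Av v := by
    intro v h
    subst h
    have hc : t * u v = u v * t := by
      refine commute_of_coprime htA (huA v) hkt ?_
      rw [hiu v]
      exact fun h => hp2 ((Nat.prime_dvd_prime_iff_eq Nat.prime_two hpr).mp
        (Nat.prime_two.dvd_of_dvd_pow h)).symm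
    have ht0 : t • pt₀ F 1 = pt₀ F 1 := smul_pt₀' (diagElt_e₀ a)
    have ht1 : t • pt₁ F = pt₁ F := smul_pt₁ (diagElt_e₁ a)
    have hperm : ∀ ω, t • ω = ω → u v • ω = pt₀ F 1 ∨ u v • ω = pt₁ F := fun ω hω =>
      diagElt_fix ha2 _ (show t • (u v • ω) = u v • ω by rw [← mul_smul, hc, mul_smul, hω])
    have hfix0 : u v • pt₀ F 1 = pt₀ F 1 ∧ u v • pt₁ F = pt₁ F := by
      rcases hperm _ ht0 with h0 | h0
      · refine ⟨h0, (hperm _ ht1).resolve_left fun h1 => (pt₀_ne_pt₁ (F := F)) ?_⟩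
        exact MulAction.injective (u v) (h0.trans h1.symm)
      · exfalso
        have h1 : u v • pt₁ F = pt₀ F 1 := (hperm _ ht1).resolve_right fun h1 => (pt₀_ne_pt₁ (F := F))
          (MulAction.injective (u v) (h0.trans h1.symm))
        have hsq : u v ^ 2 ∈ MulAction.stabilizer G (pt₀ F 1) := by
          show (u v ^ 2) • pt₀ F 1 = pt₀ F 1
          rw [pow_two, mul_smul, h0, h1]
        obtain ⟨j, hj⟩ := exists_pow_eq_self_of_coprime (x := u v) (n := 2) (by
          rw [hiu v]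
          exact Nat.Coprime.pow_right _
            (Nat.prime_two.coprime_iff_not_dvd.mpr fun h => hp2
              ((Nat.prime_dvd_prime_iff_eq Nat.prime_two hpr).mp h).symm))
        have h2 : u v • pt₀ F 1 = pt₀ F 1 := by
          have := pow_mem hsq j
          rwa [hj] at this
        exact (pt₀_ne_pt₁ (F := F)) (h2.symm.trans h0)
    exact (pt₀_ne_pt₁ (F := F)) ((hufix v _ hfix0.1).trans (hufix v _ hfix0.2).symm)
  -- this member is a `2`-group
  have htwo : ∀ g ∈ At, ∃ j, orderOf g = 2 ^ j := by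
    intro g hg
    obtain ⟨e, m, hm, hn⟩ :=
      Nat.exists_eq_pow_mul_and_not_dvd (orderOf_pos g).ne' 2 (by norm_num)
    refine ⟨e, ?_⟩
    set z := g ^ 2 ^ e with hz
    have hzm : z ^ m = 1 := by rw [hz, ← pow_mul, ← hn, pow_orderOf_eq_one]
    have hzodd : ¬ 2 ∣ orderOf z := fun h => hm (h.trans (orderOf_dvd_of_pow_eq_one hzm))
    have hc : t * z = z * t := commute_of_coprime htA (pow_mem hg _) hkt hzodd
    have ht0 : t • pt₀ F 1 = pt₀ F 1 := smul_pt₀' (diagElt_e₀ a)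
    have ht1 : t • pt₁ F = pt₁ F := smul_pt₁ (diagElt_e₁ a)
    have hperm : ∀ ω, t • ω = ω → z • ω = pt₀ F 1 ∨ z • ω = pt₁ F := fun ω hω =>
      diagElt_fix ha2 _ (show t • (z • ω) = z • ω by rw [← mul_smul, hc, mul_smul, hω])
    have h0 : z • pt₀ F 1 = pt₀ F 1 := by
      rcases hperm _ ht0 with h0 | h0
      · exact h0
      · exfalso
        have h1 : z • pt₁ F = pt₀ F 1 := (hperm _ ht1).resolve_right fun h1 => (pt₀_ne_pt₁ (F := F))
          (MulAction.injective z (h0.trans h1.symm))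
        obtain ⟨j, hj⟩ := exists_pow_eq_self_of_coprime (x := z) (n := 2)
          (Nat.prime_two.coprime_iff_not_dvd.mpr hzodd)
        have hsq : z ^ 2 ∈ MulAction.stabilizer G (pt₀ F 1) := by
          show (z ^ 2) • pt₀ F 1 = pt₀ F 1
          rw [pow_two, mul_smul, h0, h1]
        have h2 : z • pt₀ F 1 = pt₀ F 1 := by
          have := pow_mem hsq j
          rwa [hj] at this
        exact (pt₀_ne_pt₁ (F := F)) (h2.symm.trans h0)
    have h1 : z • pt₁ F = pt₁ F := (hperm _ ht1).resolve_left fun h1 => (pt₀_ne_pt₁ (F := F))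
      (MulAction.injective z (h0.trans h1.symm))
    obtain ⟨M, hM⟩ := QuotientGroup.mk'_surjective _ (z : Gq F (1 + 1))
    change (QuotientGroup.mk M : Gq F (1 + 1)) = z.1 at hM
    have h0' : z.1 • pt₀ F 1 = pt₀ F 1 := h0
    have h1' : z.1 • pt₁ F = pt₁ F := h1
    rw [← hM] at h0' h1'
    obtain ⟨c0, hc0⟩ := (smul_mk_eq_iff M e₀_ne_zero).mp h0'
    obtain ⟨c1, hc1⟩ := (smul_mk_eq_iff M e₁_ne_zero).mp h1'
    have hMq : M ^ (q - 1) = 1 := by
      have hpow : ∀ (i : ℕ) (w : Fin (1 + 1) → F) (c : F),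
          (M : Matrix (Fin (1 + 1)) (Fin (1 + 1)) F) *ᵥ w = c • w →
          ((M ^ i : GL (Fin (1 + 1)) F) : Matrix (Fin (1 + 1)) (Fin (1 + 1)) F) *ᵥ w = c ^ i • w := by
        intro i w c hw
        induction i with
        | zero => simp
        | succ i ih => rw [pow_succ', Units.val_mul, ← Matrix.mulVec_mulVec, ih, Matrix.mulVec_smul,
            hw, smul_smul, ← pow_succ]
      have hc : ∀ (w : Fin (1 + 1) → F) (c : F), w ≠ 0 →
          (M : Matrix (Fin (1 + 1)) (Fin (1 + 1)) F) *ᵥ w = c • w → c ^ (q - 1) = 1 := by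
        intro w c hw0 hw
        refine FiniteField.pow_card_sub_one_eq_one c fun hc => hw0 ?_
        rw [hc, zero_smul] at hw
        exact MulAction.injective M (show M • w = M • (0 : Fin (1 + 1) → F) from
          hw.trans (Matrix.mulVec_zero _).symm)
      refine Units.ext (ext_single fun i => ?_)
      rw [Units.val_one, Matrix.one_mulVec]
      fin_cases i
      · exact (hpow _ _ c0 hc0).trans (by rw [hc _ _ e₀_ne_zero hc0, one_smul]; rfl)
      · exact (hpow _ _ c1 hc1).trans (by rw [hc _ _ e₁_ne_zero hc1, one_smul]; rfl)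
    have hz1 : z = 1 := by
      apply orderOf_eq_one_iff.mp
      have hzq : z ^ 2 ^ k = 1 := by
        apply Subtype.ext
        rw [SubmonoidClass.coe_pow, ← hM, ← hq, ← QuotientGroup.mk_pow, hMq]
        rfl
      obtain ⟨j, -, hj⟩ := (Nat.dvd_prime_pow Nat.prime_two).mp (orderOf_dvd_of_pow_eq_one hzq)
      rcases Nat.eq_zero_or_pos j with rfl | hj0
      · simpa using hj
      · exact absurd (hj ▸ dvd_pow_self 2 hj0.ne') hzodd
    have := orderOf_dvd_of_pow_eq_one (hz.symm.trans hz1)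
    rw [hn] at this ⊢
    have hm1 : m ∣ 1 := (Nat.mul_dvd_mul_iff_left (a := 2 ^ e) (by positivity)).mp (by simpa using this)
    rw [Nat.dvd_one.mp hm1, mul_one]
  -- the smaller cover
  let 𝓢 : Finset (Subgroup G) := Finset.univ.image Av
  let 𝓑 : Finset (Subgroup G) :=
    ((𝓐 \ 𝓢).erase At) ∪ Finset.univ.image (fun v : Pt F (1 + 1) => MulAction.stabilizer G v)
  have hsub : 𝓢 ⊆ 𝓐 := fun B hB => by
    obtain ⟨v, -, rfl⟩ := Finset.mem_image.mp hB
    exact hAv v
  have hAtmem : At ∈ 𝓐 \ 𝓢 := Finset.mem_sdiff.mpr ⟨hAt, fun h => by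
    obtain ⟨v, -, hv⟩ := Finset.mem_image.mp h
    exact hAtne v hv.symm⟩
  have hcard : 𝓑.card < 𝓐.card := by
    have h1 : 𝓑.card ≤ _ := Finset.card_union_le _ _
    have h2 : (Finset.univ.image (fun v : Pt F (1 + 1) => MulAction.stabilizer G v)).card ≤ Fintype.card (Pt F (1 + 1)) :=
      Finset.card_image_le.trans (le_of_eq Finset.card_univ)
    have h3 : 𝓢.card = Fintype.card (Pt F (1 + 1)) := Finset.card_image_of_injective _ hinj
    have h4 := Finset.card_erase_add_one hAtmem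
    have h5 := Finset.card_sdiff_add_card_eq_card hsub
    omega
  refine absurd (hmin 𝓑 ⟨fun B hB => ?_, fun g => ?_⟩) (not_le.mpr hcard)
  · rcases Finset.mem_union.mp hB with h | h
    · exact hne B (Finset.sdiff_subset (Finset.mem_of_mem_erase h))
    · obtain ⟨v, -, rfl⟩ := Finset.mem_image.mp h
      exact stabilizer_ne_top hG v
  by_cases hfp : ∃ v : Pt F (1 + 1), g • v = v
  · obtain ⟨v, hv⟩ := hfp
    exact ⟨_, Finset.mem_union_right _ (Finset.mem_image.mpr ⟨v, Finset.mem_univ v, rfl⟩), hv⟩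
  push_neg at hfp
  have hnotS : ∀ (B : Subgroup G) (w : G), w ∈ B → (∀ v, w • v ≠ v) → B ∉ 𝓢 := fun B w hwB hw hB => by
    obtain ⟨v, -, rfl⟩ := Finset.mem_image.mp hB
    exact hw v (hle v hwB)
  obtain ⟨B, hB, hgB⟩ := hcov g
  by_cases hBt : B = At
  swap
  · exact ⟨B, Finset.mem_union_left _ (Finset.mem_erase.mpr ⟨hBt,
      Finset.mem_sdiff.mpr ⟨hB, hnotS B g hgB hfp⟩⟩), hgB⟩
  subst hBt
  obtain ⟨M, hM⟩ := QuotientGroup.mk'_surjective _ (g : Gq F (1 + 1))
  change (QuotientGroup.mk M : Gq F (1 + 1)) = g.1 at hM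
  have hMe : ∀ (u : Fin (1 + 1) → F) (c : F),
      (M : Matrix (Fin (1 + 1)) (Fin (1 + 1)) F) *ᵥ u = c • u → u = 0 := by
    intro w c h
    by_contra hw
    exact hfp (Projectivization.mk F w hw)
      (show g.1 • Projectivization.mk F w hw = _ from hM ▸ (smul_mk_eq_iff M hw).mpr ⟨c, h⟩)
  have hg2 : g ^ 2 = 1 := by
    obtain ⟨j, hj⟩ := htwo g hgB
    have hgq : g ^ (q + 1) = 1 := Subtype.ext (by
      rw [SubmonoidClass.coe_pow, ← hM]; exact pow_succ_card_eq_one M hMe)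
    have h1 : 2 ^ j ∣ q + 1 := hj ▸ orderOf_dvd_of_pow_eq_one hgq
    have hj1 : j ≤ 1 := by
      by_contra h
      have h2 : 4 ∣ q + 1 := (pow_dvd_pow 2 (show 2 ≤ j by omega)).trans h1
      omega
    exact orderOf_dvd_iff_pow_eq_one.mp (hj ▸ (pow_dvd_pow 2 hj1 : 2 ^ j ∣ 2 ^ 1))
  obtain ⟨r, hr, hrd⟩ := Nat.exists_prime_and_dvd (show (q + 1) / 2 ≠ 1 by omega)
  haveI := Fact.mk hr
  have hr2 : r ≠ 2 := by rintro rfl; omega
  have hrq : r ∣ q + 1 := hrd.trans (Nat.div_dvd_of_dvd (by omega))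
  have hrq1 : ¬ r ∣ q - 1 := fun h => by
    have := Nat.dvd_sub hrq h
    rw [show q + 1 - (q - 1) = 2 by omega] at this
    exact hr2 ((Nat.prime_dvd_prime_iff_eq hr Nat.prime_two).mp this)
  obtain ⟨z, hz⟩ := exists_prime_orderOf_dvd_card' r
    (G := Subgroup.centralizer ({M} : Set (GL (Fin (1 + 1)) F))) (by
      rw [card_centralizer_of_no_eigen M hMe, ← hqdef]
      refine hrq.trans ⟨q - 1, ?_⟩
      obtain ⟨s, hs⟩ : ∃ s, q = s + 2 := ⟨q - 2, by omega⟩
      rw [hs]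
      rw [show (s + 2) ^ 2 = (s + 2 + 1) * (s + 2 - 1) + 1 by
        rw [show s + 2 - 1 = s + 1 by omega]; ring, Nat.add_sub_cancel])
  have hzr : (z : GL (Fin (1 + 1)) F) ^ r ^ 1 = 1 := by
    rw [pow_one, ← SubmonoidClass.coe_pow, ← hz, pow_orderOf_eq_one]; rfl
  have hzd := det_eq_one_of_pow hzr hr hrq1
  set Z : G := ⟨_, mk_mem_of_det hG hzd⟩ with hZ
  have hcomm : g.1 * Z.1 = Z.1 * g.1 := by
    rw [← hM, hZ, ← QuotientGroup.mk_mul, ← QuotientGroup.mk_mul,
      Subgroup.mem_centralizer_singleton_iff.mp z.2]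
  have hZr : Z ^ r = 1 := Subtype.ext (by
    rw [SubmonoidClass.coe_pow, hZ, ← QuotientGroup.mk_pow, ← pow_one r, hzr]; rfl)
  have hZ1 : Z ≠ 1 := by
    intro h
    have hzc : (z : GL (Fin (1 + 1)) F) ∈ Subgroup.center (GL (Fin (1 + 1)) F) :=
      (QuotientGroup.eq_one_iff _).mp (congrArg Subtype.val h)
    rw [Matrix.GeneralLinearGroup.center_eq_range_scalar] at hzc
    obtain ⟨b, hb⟩ := hzc
    have hbr : b ^ r = 1 := by
      have h1 : Matrix.GeneralLinearGroup.scalar (Fin (1 + 1)) (b ^ r) = 1 := by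
        rw [map_pow, hb, ← pow_one r, hzr]
      exact Units.ext (by simpa [Matrix.diagonal_pow] using congrArg (fun g : GL (Fin (1 + 1)) F =>
        (g : Matrix (Fin (1 + 1)) (Fin (1 + 1)) F) 0 0) h1)
    rcases hr.eq_one_or_self_of_dvd _ (orderOf_dvd_of_pow_eq_one hbr) with h2 | h2
    · rw [orderOf_eq_one_iff.mp h2, map_one] at hb
      have : z = 1 := Subtype.ext hb.symm
      rw [this, orderOf_one] at hz
      exact hr.one_lt.ne hz
    · exact hrq1 (h2 ▸ hqdef ▸ Fintype.card_units F ▸ orderOf_dvd_card)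
  obtain ⟨C, hC, hsC⟩ := hcov (g * Z)
  have hgC : g ∈ C := by
    have hsq : g.1 ^ 2 = 1 := congrArg Subtype.val hg2
    obtain ⟨w, hw, hwe⟩ := mem_of_mul_mem (A := C.map G.subtype) hsq hcomm (hr.odd_of_ne_two hr2)
      (congrArg Subtype.val hZr) ⟨g * Z, hsC, rfl⟩
    rwa [Subtype.ext hwe] at hw
  have hCt : C ≠ B := by
    intro h
    subst h
    have hZC : Z ∈ C := by simpa using mul_mem (inv_mem hgC) hsC
    obtain ⟨j, hj⟩ := htwo Z hZC
    have := orderOf_eq_prime hZr hZ1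
    rw [hj] at this
    exact hr2 ((Nat.prime_dvd_prime_iff_eq hr Nat.prime_two).mp
      (hr.dvd_of_dvd_pow (dvd_of_eq this.symm)))
  exact ⟨C, Finset.mem_union_left _ (Finset.mem_erase.mpr ⟨hCt,
    Finset.mem_sdiff.mpr ⟨hC, hnotS C g hgC hfp⟩⟩), hgC⟩

end CfsgLib.MinCover.PGL
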